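import Cfsg.Agent.SolvLinQuot.Symp
import Cfsg.Agent.Core.Solvable

/-!
Linear groups whose abelian normal subgroups are scalar.
-/

set_option autoImplicit false
set_option maxHeartbeats 1000000
set_option linter.style.haveILetI false
set_option linter.unusedSectionVars false

namespace Cfsg.Agent.SolvLinQuot

open ClassBoundSq
open scoped commutatorElement

universe u v w

variable {K : Type w} [Field K] {G : Type u} [Group G] [Finite G] [Group.IsSolvable G] {V : Type v}
  [AddCommGroup V] [Module K V] [FiniteDimensional K V] [Nontrivial V] (ρ : Representation K G V)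

/-- Every abelian normal subgroup acts by scalars. -/
def ScalarAbelian : Prop :=
  ∀ A : Subgroup G, A.Normal → (∀ a ∈ A, ∀ b ∈ A, a * b = b * a) → ∀ a ∈ A, ∃ k : K, ρ a = k • 1

variable {ρ} (hρ : Function.Injective ρ) (hsc : ScalarAbelian ρ)

include hρ hsc in
theorem abelian_le_center (A : Subgroup G) (hA : A.Normal) (hc : ∀ a ∈ A, ∀ b ∈ A, a * b = b * a) :
    A ≤ Subgroup.center G := fun a ha => Subgroup.mem_center_iff.2 fun g => hρ <| by
  obtain ⟨k, hk⟩ := hsc A hA hc a ha
  rw [map_mul, map_mul, hk, mul_smul_comm, smul_mul_assoc, one_mul, mul_one]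

include hρ hsc in
theorem commutator_fitting_le :
    ⁅Cfsg.fittingSubgroup G, Cfsg.fittingSubgroup G⁆ ≤ Subgroup.center G := by
  set F := Cfsg.fittingSubgroup G with hF
  set Z := Subgroup.center G with hZ
  haveI : Group.IsNilpotent F := Core.fittingSubgroup_isNilpotent
  by_contra hD
  let π := QuotientGroup.mk' Z
  let S : Subgroup G := (Subgroup.centralizer ((F.map π : Subgroup (G ⧸ Z)) : Set (G ⧸ Z))).comap π
  haveI : (F.map π).Normal := Subgroup.Normal.map inferInstance π (QuotientGroup.mk'_surjective Z)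
  haveI : S.Normal := Subgroup.Normal.comap inferInstance π
  have hmem : ∀ x ∈ S, ∀ f ∈ F, x * f * x⁻¹ * f⁻¹ ∈ Z := fun x hx f hf => by
    refine (QuotientGroup.eq_one_iff _).1 ?_
    have h : π f * π x = π x * π f := hx _ ⟨f, hf, rfl⟩
    show π (x * f * x⁻¹ * f⁻¹) = 1
    rw [map_mul, map_mul, map_mul, map_inv, map_inv, ← h, mul_inv_cancel_right, mul_inv_cancel]
  have hcomm : ∀ x ∈ S, ⁅F, F⁆ ≤ Subgroup.centralizer ({x} : Set G) := fun x hx => by
    letI : CommGroup Z := { (inferInstance : Group Z) with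
      mul_comm := fun a b => Subtype.ext (Subgroup.mem_center_iff.1 b.2 a.1) }
    let φ : F →* Z := MonoidHom.mk' (fun f => ⟨_, hmem x hx f.1 f.2⟩) fun f f' => Subtype.ext (by
      show x * (f.1 * f'.1) * x⁻¹ * (f.1 * f'.1)⁻¹ =
        x * f.1 * x⁻¹ * f.1⁻¹ * (x * f'.1 * x⁻¹ * f'.1⁻¹)
      have hz := Subgroup.mem_center_iff.1 (hmem x hx f'.1 f'.2) f.1
      calc x * (f.1 * f'.1) * x⁻¹ * (f.1 * f'.1)⁻¹
          = x * f.1 * x⁻¹ * ((x * f'.1 * x⁻¹ * f'.1⁻¹) * f.1⁻¹) := by group
        _ = x * f.1 * x⁻¹ * (f.1⁻¹ * (x * f'.1 * x⁻¹ * f'.1⁻¹)) := by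
            rw [← Subgroup.mem_center_iff.1 (hmem x hx f'.1 f'.2) f.1⁻¹]
        _ = _ := by group)
    refine Subgroup.commutator_le.2 fun f hf g hg => Subgroup.mem_centralizer_singleton_iff.2 ?_
    have h : φ ⁅(⟨f, hf⟩ : F), ⟨g, hg⟩⁆ = 1 := by
      rw [map_commutatorElement, commutatorElement_eq_one_iff_commute]
      exact mul_comm _ _
    have h' : x * ⁅f, g⁆ * x⁻¹ * ⁅f, g⁆⁻¹ = 1 := congrArg Subtype.val h
    exact (mul_inv_eq_iff_eq_mul.1 (mul_inv_eq_one.1 h')).symm
  have hA := abelian_le_center hρ hsc (⁅F, F⁆ ⊓ S) inferInstance fun a ha b hb =>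
    Subgroup.mem_centralizer_singleton_iff.1 (hcomm b hb.2 ha.1)
  -- an element outside the centre
  let πF : F →* F ⧸ Z.subgroupOf F := QuotientGroup.mk' _
  haveI : Group.IsNilpotent (F ⧸ Z.subgroupOf F) := Group.nilpotent_of_surjective πF (QuotientGroup.mk'_surjective _)
  haveI : ((⁅F, F⁆.subgroupOf F).map πF).Normal :=
    Subgroup.Normal.map inferInstance πF (QuotientGroup.mk'_surjective _)
  have hne : (⁅F, F⁆.subgroupOf F).map πF ≠ ⊥ := fun e => hD fun x hx => by
    have hxF : x ∈ F := Subgroup.commutator_le_left F F hx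
    have : πF ⟨x, hxF⟩ ∈ (⊥ : Subgroup (F ⧸ Z.subgroupOf F)) := e ▸ ⟨⟨x, hxF⟩, hx, rfl⟩
    exact (QuotientGroup.eq_one_iff (⟨x, hxF⟩ : F)).1 (Subgroup.mem_bot.1 this)
  obtain ⟨y, hy, hy1⟩ := (Subgroup.bot_or_exists_ne_one _).resolve_left (Core.inf_center_ne_bot hne)
  obtain ⟨⟨x, hxD, rfl⟩, hyc⟩ := hy
  refine hy1 ((QuotientGroup.eq_one_iff x).2 (hA ⟨hxD, ?_⟩))
  rintro _ ⟨f, hf, rfl⟩
  have h := Subgroup.mem_center_iff.1 hyc (πF ⟨f, hf⟩)
  have h2 : (⟨f, hf⟩ * x)⁻¹ * (x * ⟨f, hf⟩) ∈ Z.subgroupOf F := QuotientGroup.eq.1 h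
  exact QuotientGroup.eq.2 (by simpa [Subgroup.mem_subgroupOf] using h2)

include hρ hsc in
theorem center_scalar (b : Subgroup.center G) : ∃ k : Kˣ, ρ b.1 = (k : K) • 1 := by
  obtain ⟨k, hk⟩ := hsc (Subgroup.center G) inferInstance (fun a ha c _ => (Subgroup.mem_center_iff.1 ha c).symm) b.1 b.2
  have hk0 : k ≠ 0 := fun e => by
    obtain ⟨z, hz⟩ := exists_ne (0 : V)
    refine hz ?_
    have h : ρ (b.1⁻¹ * b.1) z = z := by rw [inv_mul_cancel, map_one, Module.End.one_apply]
    rw [map_mul, hk, e, zero_smul, mul_zero, LinearMap.zero_apply] at h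
    exact h.symm
  exact ⟨Units.mk0 k hk0, hk⟩

theorem smul_one_inj {a b : K} (h : a • (1 : Module.End K V) = b • 1) : a = b := by
  obtain ⟨z, hz⟩ := exists_ne (0 : V)
  have := LinearMap.congr_fun h z
  simp only [LinearMap.smul_apply, Module.End.one_apply] at this
  exact (smul_left_injective K hz) this

/-- The central character. -/
noncomputable def centralChar : Subgroup.center G →* Kˣ :=
  MonoidHom.mk' (fun b => (center_scalar hρ hsc b).choose) fun a b => Units.ext (smul_one_inj (V := V) (by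
    rw [← (center_scalar hρ hsc (a * b)).choose_spec, Subgroup.coe_mul, map_mul]
    refine (congrArg₂ (· * ·) (center_scalar hρ hsc a).choose_spec (center_scalar hρ hsc b).choose_spec).trans ?_
    rw [smul_mul_smul_comm, mul_one, Units.val_mul]))

theorem centralChar_spec (b : Subgroup.center G) : ρ b.1 = (centralChar hρ hsc b : K) • 1 :=
  (center_scalar hρ hsc b).choose_spec

/-- The data of the Fitting subgroup. -/
noncomputable def fitHeis : Heis K G where
  B := Subgroup.center G
  N := Cfsg.fittingSubgroup G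
  normal := inferInstance
  central b hb c := (Subgroup.mem_center_iff.1 hb c).symm
  le := by
    haveI : IsMulCommutative (Subgroup.center G) :=
      ⟨⟨fun a b => Subtype.ext (Subgroup.mem_center_iff.1 b.2 a.1)⟩⟩
    exact Core.le_fittingSubgroup_of_isMulCommutative
  comm a ha b hb := commutator_fitting_le hρ hsc (Subgroup.commutator_mem_commutator ha hb)
  cent c hc := by
    refine abelian_le_center hρ hsc (Cfsg.fittingSubgroup G ⊓ Subgroup.centralizer (Cfsg.fittingSubgroup G : Set G))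
      inferInstance (fun a ha b hb => hb.2 a ha.1) ⟨?_, ?_⟩
    · exact Core.centralizer_fittingSubgroup_le fun x hx => (hc x hx).symm
    · exact fun x hx => (hc x hx).symm
  χ := centralChar hρ hsc
  inj a b h := Subtype.ext (hρ (by rw [centralChar_spec hρ hsc a, centralChar_spec hρ hsc b, h]))

theorem fitHeis_card_W : Nat.card (fitHeis hρ hsc).W ≤ Module.finrank K V ^ 2 := by
  classical
  let R := fitHeis hρ hsc
  haveI := Fintype.ofFinite R.W
  let rep : R.W → R.N := fun u => u.out
  have hrep : ∀ u : R.W, ((rep u : R.N) : R.W) = u := fun u => QuotientGroup.out_eq' u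
  have hcomm : ∀ a n : R.N, ρ a.1 * ρ n.1 = (R.pair a n : K) • (ρ n.1 * ρ a.1) := fun a n => by
    have hb : ρ (R.br a n).1 = (R.pair a n : K) • 1 := centralChar_spec hρ hsc (R.br a n)
    rw [← one_mul (ρ n.1 * ρ a.1), ← smul_mul_assoc, ← hb, ← map_mul, ← map_mul, ← map_mul]
    congr 1
    show a.1 * n.1 = a.1 * n.1 * a.1⁻¹ * n.1⁻¹ * (n.1 * a.1)
    group
  have hinv : ∀ g : G, Function.Injective (ρ g) := fun g z z' e => by
    have := congrArg (ρ g⁻¹) e
    rwa [← Module.End.mul_apply, ← Module.End.mul_apply, ← map_mul, inv_mul_cancel, map_one] at this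
  have hne : ∀ c : G, ρ c ≠ 0 := fun c e => by
    obtain ⟨z, hz⟩ := exists_ne (0 : V)
    exact hz (hinv c (by rw [e, LinearMap.zero_apply, LinearMap.zero_apply]))
  have hli : LinearIndependent K fun u => ρ (rep u).1 := by
    rw [Fintype.linearIndependent_iff]
    intro g hg i
    have hchar := (linearIndependent_monoidHom R.W K).comp
      (fun u => (Units.coeHom K).comp (R.pair u)) fun u v e =>
        R.pair_inj (MonoidHom.ext fun x => Units.ext (DFunLike.congr_fun e x))
    have hn : ∀ n : R.N, ∑ u, (g u * (R.pair u n : K)) • ρ (rep u).1 = 0 := by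
      intro n
      refine LinearMap.ext fun z => hinv n.1 ?_
      have e : ρ n.1 * (∑ u, (g u * (R.pair u n : K)) • ρ (rep u).1) = (∑ u, g u • ρ (rep u).1) * ρ n.1 := by
        rw [Finset.mul_sum, Finset.sum_mul]
        exact Finset.sum_congr rfl fun u _ => by rw [smul_mul_assoc, hcomm, hrep, mul_smul_comm, smul_smul]
      rw [← Module.End.mul_apply, e, hg, zero_mul, LinearMap.zero_apply, map_zero]
    by_contra hi
    obtain ⟨φ, hφ⟩ : ∃ φ : Module.Dual K (Module.End K V), φ (ρ (rep i).1) ≠ 0 := by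
      by_contra h
      push Not at h
      exact hne _ ((Module.forall_dual_apply_eq_zero_iff K _).1 h)
    have h0 := (Fintype.linearIndependent_iff.1 hchar) (fun u => g u * φ (ρ (rep u).1)) (funext fun x => by
      induction x using QuotientGroup.induction_on with | _ n =>
      have := congrArg φ (hn n)
      simp only [map_sum, map_smul, smul_eq_mul, map_zero] at this
      simp only [Finset.sum_apply, Pi.smul_apply, smul_eq_mul, Function.comp_apply, Pi.zero_apply]
      rw [← this]
      exact Finset.sum_congr rfl fun u _ => by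
        show g u * φ (ρ (rep u).1) * (R.pair u n : K) = _
        ring) i
    exact mul_ne_zero hi hφ h0
  have := hli.fintype_card_le_finrank
  have h2 : Module.finrank K (Module.End K V) = Module.finrank K V * Module.finrank K V :=
    Module.finrank_linearMap K K V V
  rw [h2, ← sq, ← Nat.card_eq_fintype_card] at this
  exact this

include hρ hsc in
/-- The bound. -/
theorem subCls_primitive :
    SubCls (G ⧸ Cfsg.fittingSubgroup G) (3 ^ (Module.finrank K V - 1)) := by
  classical
  let R := fitHeis hρ hsc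
  obtain ⟨e, he0, hw⟩ := R.exists_sq
  let Φ : Form K R.W := ⟨R.pair, R.pair_self, R.pair_inj⟩
  let X : Subgroup (MulAut R.W) := R.conj.range
  have hsolv : Group.IsSolvable X := Group.isSolvable_of_surjective R.conj.rangeRestrict_surjective
  have hX : Φ.Pres X := by
    rintro _ ⟨g, rfl⟩ u v
    exact R.pair_conj g u v
  have hn : Φ.Nd X := by
    intro U hU hiso
    let P : Subgroup G :=
      { carrier := {x | ∃ hx : x ∈ R.N, ((⟨x, hx⟩ : R.N) : R.W) ∈ U}
        one_mem' := ⟨R.N.one_mem, U.one_mem⟩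
        mul_mem' := fun {x y} ⟨hx, hx'⟩ ⟨hy, hy'⟩ => ⟨R.N.mul_mem hx hy, U.mul_mem hx' hy'⟩
        inv_mem' := fun {x} ⟨hx, hx'⟩ => ⟨R.N.inv_mem hx, U.inv_mem hx'⟩ }
    have hPn : P.Normal := ⟨fun x ⟨hx, hx'⟩ g => ⟨R.normal.conj_mem x hx g, by
      have := hU _ ⟨g, rfl⟩ _ hx'
      rwa [R.conj_mk] at this⟩⟩
    have hPc : ∀ a ∈ P, ∀ b ∈ P, a * b = b * a := by
      rintro a ⟨ha, ha'⟩ b ⟨hb, hb'⟩
      have h : R.br ⟨a, ha⟩ ⟨b, hb⟩ = 1 := R.inj ((hiso _ ha' _ hb').trans (map_one R.χ).symm)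
      exact mul_inv_eq_iff_eq_mul.1 (mul_inv_eq_one.1 (congrArg Subtype.val h))
    refine (Subgroup.eq_bot_iff_forall U).2 fun u hu => ?_
    induction u using QuotientGroup.induction_on with | _ a =>
    exact (QuotientGroup.eq_one_iff a).2 (abelian_le_center hρ hsc P hPn hPc ⟨a.2, hu⟩)
  have hed : e ≤ Module.finrank K V :=
    (Nat.pow_le_pow_iff_left two_ne_zero).1 (hw ▸ fitHeis_card_W hρ hsc)
  have h := (subCls_symp K e R.W Φ X hsolv hX hn hw).mono (Nat.pow_le_pow_right (show 0 < 3 by norm_num)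
    (show e - 1 ≤ Module.finrank K V - 1 by omega))
  let eqv : G ⧸ Cfsg.fittingSubgroup G ≃* X :=
    (QuotientGroup.quotientMulEquivOfEq R.conj_ker.symm).trans (QuotientGroup.quotientKerEquivRange R.conj)
  exact h.of_injective eqv.toMonoidHom eqv.injective

end Cfsg.Agent.SolvLinQuot
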