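import Mathlib

/-!
Weight decomposition along an abelian normal subgroup.
-/

set_option autoImplicit false
set_option maxHeartbeats 1000000
set_option linter.style.haveILetI false
set_option linter.unusedSectionVars false

namespace Cfsg.Agent.SolvLinQuot

universe u v w

variable {K : Type w} [Field K] [IsAlgClosed K] [CharZero K] {G : Type u} [Group G] [Finite G] {V : Type v}
  [AddCommGroup V] [Module K V] [Nontrivial V] (ρ : Representation K G V)

/-- The decomposition. -/
theorem exists_weights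
    (hirr : ∀ U : Submodule K V, (∀ g : G, ∀ u ∈ U, ρ g u ∈ U) → U = ⊥ ∨ U = ⊤)
    (A : Subgroup G) (hAn : A.Normal) (hAc : ∀ a ∈ A, ∀ b ∈ A, a * b = b * a)
    (hns : ∃ a ∈ A, ∀ k : K, ρ a ≠ k • 1) :
    ∃ (ι : Type (max u w)) (_ : Fintype ι) (_ : MulAction G ι) (E : ι → Module.End K V) (i0 : ι),
      (∀ i j, E i * E j = open scoped Classical in if i = j then E i else 0) ∧ ∑ i, E i = 1 ∧
      (∀ (g : G) i, ρ g * E i = E (g • i) * ρ g) ∧ (∀ i, ∃ g : G, g • i0 = i) ∧ (∀ i, E i ≠ 0) ∧
      ∃ j, j ≠ i0 := by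
  classical
  haveI := hAn
  letI : CommGroup A :=
    { (inferInstance : Group A) with mul_comm := fun a b => Subtype.ext (hAc a a.2 b b.2) }
  haveI := Fintype.ofFinite A
  haveI : NeZero ((Monoid.exponent A : ℕ) : K) := ⟨Nat.cast_ne_zero.2 Monoid.exponent_ne_zero_of_finite⟩
  have hcardχ : Nat.card (A →* Kˣ) = Nat.card A := CommGroup.card_monoidHom_of_hasEnoughRootsOfUnity A K
  haveI : Finite (A →* Kˣ) := Nat.finite_of_card_ne_zero (by rw [hcardχ]; exact Nat.card_pos.ne')
  haveI := Fintype.ofFinite (A →* Kˣ)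
  have hc : (Fintype.card A : K) ≠ 0 := Nat.cast_ne_zero.2 Fintype.card_ne_zero
  let S : (A →* Kˣ) → Module.End K V := fun μ => ∑ a : A, ((μ a)⁻¹ : Kˣ).1 • ρ a.1
  let E : (A →* Kˣ) → Module.End K V := fun μ => (Fintype.card A : K)⁻¹ • S μ
  have hshift : ∀ μ (b : A), ρ b.1 * E μ = (μ b : K) • E μ := fun μ b => by
    have e : ρ b.1 * S μ = (μ b : K) • S μ := by
      simp only [S, Finset.mul_sum, Finset.smul_sum]
      refine Fintype.sum_equiv (Equiv.mulLeft b) _ _ fun a => ?_
      rw [mul_smul_comm, ← map_mul, Equiv.coe_mulLeft, smul_smul]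
      congr 1
      rw [← Units.val_mul, map_mul, mul_inv_rev, mul_left_comm, mul_inv_cancel, mul_one]
    simp only [E, mul_smul_comm, e, smul_comm (μ b : K)]
  have horth : ∀ μ ν, E μ * E ν = if μ = ν then E μ else 0 := fun μ ν => by
    have e : S μ * E ν = (∑ a : A, ((μ a)⁻¹ * ν a : Kˣ).1) • E ν := by
      simp only [S, Finset.sum_mul, Finset.sum_smul, smul_mul_assoc, hshift, smul_smul, ← Units.val_mul]
    have hsum : (∑ a : A, ((μ a)⁻¹ * ν a : Kˣ).1) = if μ = ν then (Fintype.card A : K) else 0 := by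
      rw [show (∑ a : A, ((μ a)⁻¹ * ν a : Kˣ).1) = ∑ a : A, ((Units.coeHom K).comp (μ⁻¹ * ν)) a from
        Finset.sum_congr rfl fun a _ => rfl, sum_hom_units, Nat.cast_ite, Nat.cast_zero]
      refine if_congr ⟨fun h => ?_, fun h => by rw [h]; ext a; simp⟩ rfl rfl
      exact inv_mul_eq_one.1 (MonoidHom.ext fun a => Units.ext (DFunLike.congr_fun h a))
    show (Fintype.card A : K)⁻¹ • S μ * E ν = _
    rw [smul_mul_assoc, e, hsum]
    split_ifs with h
    · rw [h, smul_smul, inv_mul_cancel₀ hc, one_smul]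
    · rw [zero_smul, smul_zero]
  have hone : ∑ μ, E μ = 1 := by
    simp only [E, ← Finset.smul_sum, S]
    rw [Finset.sum_comm]
    simp only [← Finset.sum_smul]
    rw [Finset.sum_eq_single (1 : A) (fun a _ ha => ?_) (fun h => absurd (Finset.mem_univ _) h)]
    · simp only [map_one, inv_one, Units.val_one, Finset.sum_const, Finset.card_univ, nsmul_eq_mul, mul_one,
        OneMemClass.coe_one]
      rw [← Nat.card_eq_fintype_card (α := A →* Kˣ), hcardχ, Nat.card_eq_fintype_card, smul_smul,
        inv_mul_cancel₀ hc, one_smul]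
    · have h0 : (∑ μ : A →* Kˣ, ((μ a)⁻¹ : Kˣ).1) = 0 := by
        let ev : (A →* Kˣ) →* K := (Units.coeHom K).comp (MonoidHom.eval a⁻¹)
        have hev : ev ≠ 1 := fun h => by
          obtain ⟨φ, hφ⟩ := CommGroup.exists_apply_ne_one_of_hasEnoughRootsOfUnity A K
            (a := a⁻¹) (inv_ne_one.2 ha)
          exact hφ (Units.ext (DFunLike.congr_fun h φ))
        rw [← sum_hom_units_eq_zero ev hev]
        exact Finset.sum_congr rfl fun μ _ => by simp [ev, MonoidHom.eval]
      rw [h0, zero_smul]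
  -- the action on weights
  let cj : G → A →* A := fun g => (MulAut.conjNormal g⁻¹ : MulAut A).toMonoidHom
  have heq : ∀ g μ, ρ g * E μ = E (μ.comp (cj g)) * ρ g := fun g μ => by
    simp only [E, S, mul_smul_comm, smul_mul_assoc, Finset.mul_sum, Finset.sum_mul]
    congr 1
    refine Fintype.sum_equiv (MulAut.conjNormal g : MulAut A).toEquiv _ _ fun a => ?_
    have e : cj g ((MulAut.conjNormal g : MulAut A) a) = a := by
      show (MulAut.conjNormal g⁻¹ : MulAut A) ((MulAut.conjNormal g : MulAut A) a) = a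
      rw [← MulAut.mul_apply, ← map_mul, inv_mul_cancel, map_one, MulAut.one_apply]
    rw [MonoidHom.comp_apply, show (MulAut.conjNormal g : MulAut A).toEquiv a = (MulAut.conjNormal g : MulAut A) a from rfl,
      e, MulAut.conjNormal_apply, ← map_mul, ← map_mul, inv_mul_cancel_right]
  have hinj : ∀ g, Function.Injective (fun f : Module.End K V => ρ g * f) := fun g f f' e => by
    have := congrArg (ρ g⁻¹ * ·) e
    simpa [← mul_assoc, ← map_mul] using this
  have hinj' : ∀ g, Function.Injective (fun f : Module.End K V => f * ρ g) := fun g f f' e => by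
    have := congrArg (· * ρ g⁻¹) e
    simpa [mul_assoc, ← map_mul] using this
  have hne : ∀ g μ, E μ ≠ 0 → E (μ.comp (cj g)) ≠ 0 := fun g μ h h' => by
    refine h (hinj g ?_)
    show ρ g * E μ = ρ g * 0
    rw [heq, h', zero_mul, mul_zero]
  let ι := {μ : A →* Kˣ // E μ ≠ 0}
  letI act : MulAction G ι :=
    { smul := fun g i => ⟨i.1.comp (cj g), hne g i.1 i.2⟩
      one_smul := fun i => Subtype.ext (MonoidHom.ext fun a => by
        show i.1 ((MulAut.conjNormal (1 : G)⁻¹ : MulAut A) a) = i.1 a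
        rw [inv_one, map_one, MulAut.one_apply])
      mul_smul := fun g h i => Subtype.ext (MonoidHom.ext fun a => by
        show i.1 ((MulAut.conjNormal (g * h)⁻¹ : MulAut A) a) =
          i.1 ((MulAut.conjNormal h⁻¹ : MulAut A) ((MulAut.conjNormal g⁻¹ : MulAut A) a))
        rw [mul_inv_rev, map_mul, MulAut.mul_apply]) }
  have hsum : ∑ i : ι, E i.1 = 1 := by
    rw [← hone, ← Finset.sum_subtype (Finset.univ.filter fun μ => E μ ≠ 0) (fun μ => by simp) E,
      Finset.sum_filter_ne_zero]
  have hι : Nonempty ι := by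
    by_contra h
    rw [not_nonempty_iff] at h
    obtain ⟨z, hz⟩ := exists_ne (0 : V)
    have := LinearMap.congr_fun hsum z
    rw [Finset.univ_eq_empty, Finset.sum_empty, LinearMap.zero_apply, Module.End.one_apply] at this
    exact hz this.symm
  obtain ⟨i0⟩ := hι
  refine ⟨ι, inferInstance, act, fun i => E i.1, i0, fun i j => ?_, hsum, fun g i => heq g i.1, ?_, fun i => i.2, ?_⟩
  · rw [horth]
    by_cases h : i = j
    · rw [h, if_pos rfl, if_pos rfl]
    · rw [if_neg fun e => h (Subtype.ext e), if_neg h]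
  · intro j
    by_contra hno
    push Not at hno
    let U : Submodule K V := ⨅ c : {c : ι // ∀ g : G, g • i0 ≠ c}, LinearMap.ker (E c.1.1)
    have hU : ∀ g : G, ∀ u ∈ U, ρ g u ∈ U := fun g u hu => (Submodule.mem_iInf _).2 fun c => by
      have hu' := (Submodule.mem_iInf _).1 hu ⟨g⁻¹ • c.1, fun k hk => c.2 (g * k) (by
        rw [mul_smul, hk, smul_inv_smul])⟩
      rw [LinearMap.mem_ker] at hu' ⊢
      have h := LinearMap.congr_fun (heq g (g⁻¹ • c.1 : ι).1) u
      rw [Module.End.mul_apply, Module.End.mul_apply, hu', map_zero] at h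
      rw [show (g⁻¹ • c.1 : ι).1.comp (cj g) = c.1.1 from congrArg Subtype.val (smul_inv_smul g c.1)] at h
      exact h.symm
    rcases hirr U hU with h | h
    · refine i0.2 (LinearMap.ext fun v => ?_)
      have hm : E i0.1 v ∈ U := (Submodule.mem_iInf _).2 fun c => by
        rw [LinearMap.mem_ker, ← Module.End.mul_apply, horth, if_neg, LinearMap.zero_apply]
        exact fun e => c.2 1 (by rw [one_smul]; exact (Subtype.ext e).symm)
      rw [h, Submodule.mem_bot] at hm
      exact hm
    · refine j.2 (LinearMap.ext fun v => ?_)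
      have hm : v ∈ U := h ▸ Submodule.mem_top
      exact LinearMap.mem_ker.1 ((Submodule.mem_iInf _).1 hm ⟨j, hno⟩)
  · by_contra hno
    push Not at hno
    obtain ⟨a, ha, hk⟩ := hns
    have h1 : E i0.1 = 1 := by
      rw [← hsum, Finset.sum_eq_single i0 (fun j _ hj => absurd (hno j) hj) fun h => absurd (Finset.mem_univ _) h]
    refine hk (i0.1 ⟨a, ha⟩ : K) ?_
    have := hshift i0.1 ⟨a, ha⟩
    rwa [h1, mul_one] at this

end Cfsg.Agent.SolvLinQuot
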