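import Cfsg.Agent.SolvLinQuot.PermBound
import Cfsg.Agent.SolvLinQuot.Primitive
import Cfsg.Agent.SolvLinQuot.Weights
import Cfsg.Agent.SelfDual.Decomp

/-!
The quotient of a solvable linear group by its Fitting subgroup.
-/

set_option autoImplicit false
set_option maxHeartbeats 1000000
set_option linter.style.haveILetI false
set_option linter.unusedSectionVars false

namespace Cfsg.Agent.SolvLinQuot

open ClassBoundSq MulAction

universe u v w

section Restrict

variable {K : Type w} [Field K] {G : Type u} [Group G] {V : Type v} [AddCommGroup V] [Module K V]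

/-- The representation on an invariant subspace. -/
def resRep (ρ : Representation K G V) (U : Submodule K V) (hU : ∀ g, ∀ u ∈ U, ρ g u ∈ U) :
    Representation K G U where
  toFun g := (ρ g).restrict (hU g)
  map_one' := LinearMap.ext fun u => Subtype.ext (by
    show ρ 1 u.1 = u.1
    rw [map_one, Module.End.one_apply])
  map_mul' g h := LinearMap.ext fun u => Subtype.ext (by
    show ρ (g * h) u.1 = ρ g (ρ h u.1)
    rw [map_mul, Module.End.mul_apply])

theorem resRep_apply (ρ : Representation K G V) (U : Submodule K V) (hU : ∀ g, ∀ u ∈ U, ρ g u ∈ U)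
    (g : G) (u : U) : (resRep ρ U hU g u).1 = ρ g u.1 := rfl

end Restrict

/-- The bound in dimension `d`. -/
def Bound (K : Type w) [Field K] (d : ℕ) : Prop :=
  ∀ (V : Type v) [AddCommGroup V] [Module K V] [FiniteDimensional K V] (G : Type u) [Group G] [Finite G]
    [Group.IsSolvable G] (ρ : Representation K G V), Function.Injective ρ → Module.finrank K V = d →
    SubCls (G ⧸ Cfsg.fittingSubgroup G) (3 ^ (d - 1))

theorem piece {K : Type w} [Field K] {d : ℕ} (ih : ∀ b < d, Bound.{u, v} K b) {V : Type v} [AddCommGroup V]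
    [Module K V] [FiniteDimensional K V] {G : Type u} [Group G] [Finite G] [Group.IsSolvable G]
    (ρ : Representation K G V) {b : ℕ} (hb : b < d) (U : Submodule K V) (hU : ∀ g, ∀ u ∈ U, ρ g u ∈ U)
    (hUb : Module.finrank K U = b) :
    SubCls ((G ⧸ MonoidHom.ker (resRep ρ U hU : G →* Module.End K U)) ⧸
      Cfsg.fittingSubgroup (G ⧸ MonoidHom.ker (resRep ρ U hU : G →* Module.End K U))) (3 ^ (b - 1)) := by
  let f : G →* Module.End K U := resRep ρ U hU
  haveI : Group.IsSolvable (G ⧸ f.ker) := Group.isSolvable_of_surjective (QuotientGroup.mk'_surjective f.ker)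
  refine ih b hb U (G ⧸ f.ker) (QuotientGroup.lift f.ker f le_rfl) ?_ hUb
  intro x y h
  induction x using QuotientGroup.induction_on with | _ a =>
  induction y using QuotientGroup.induction_on with | _ c =>
  refine QuotientGroup.eq.2 (MonoidHom.mem_ker.2 ?_)
  have h' : f a = f c := h
  rw [map_mul, ← h', ← map_mul, inv_mul_cancel, map_one]

theorem bound_reducible {K : Type w} [Field K] [CharZero K] {d : ℕ} (ih : ∀ b < d, Bound.{u, v} K b) {V : Type v}
    [AddCommGroup V] [Module K V] [FiniteDimensional K V] {G : Type u} [Group G] [Finite G] [Group.IsSolvable G]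
    (ρ : Representation K G V) (hρ : Function.Injective ρ) (hd : Module.finrank K V = d) (U : Submodule K V)
    (hU : ∀ g, ∀ u ∈ U, ρ g u ∈ U) (hU0 : U ≠ ⊥) (hU1 : U ≠ ⊤) :
    SubCls (G ⧸ Cfsg.fittingSubgroup G) (3 ^ (d - 1)) := by
  obtain ⟨C, hC, hcompl⟩ := SelfDual.exists_inv_isCompl (Nat.cast_ne_zero.2 Nat.card_pos.ne') ρ hU
  have hC0 : C ≠ ⊥ := fun e => hU1 (by simpa [e] using hcompl.sup_eq_top)
  have hsum : Module.finrank K U + Module.finrank K C = d := by
    rw [← hd]; exact Submodule.finrank_add_eq_of_isCompl hcompl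
  have hpos : ∀ X : Submodule K V, X ≠ ⊥ → 0 < Module.finrank K X := fun X hX =>
    Nat.pos_of_ne_zero fun e => hX (Submodule.finrank_eq_zero.1 e)
  have h1 := hpos U hU0
  have h2 := hpos C hC0
  let Us : Bool → Submodule K V := fun i => bif i then U else C
  have hUs : ∀ i, ∀ g, ∀ u ∈ Us i, ρ g u ∈ Us i := fun i => by cases i <;> assumption
  let N : Bool → Subgroup G := fun i => MonoidHom.ker (resRep ρ (Us i) (hUs i) : G →* Module.End K (Us i))
  haveI : ∀ i, (N i).Normal := fun i => MonoidHom.normal_ker _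
  have h := SubCls.fitting_pi (A := fun i => G ⧸ N i) (b := fun i => 3 ^ (Module.finrank K (Us i) - 1))
    (fun i => piece ih ρ (by cases i <;> simp only [Us, cond_true, cond_false] <;> omega) (Us i) (hUs i) rfl)
    (fun i => QuotientGroup.mk' (N i)) fun x hx => hρ (LinearMap.ext fun v => by
      obtain ⟨a, ha, c, hc, rfl⟩ := Submodule.mem_sup.1 (hcompl.sup_eq_top.symm ▸ Submodule.mem_top : v ∈ U ⊔ C)
      have key : ∀ i, ∀ z ∈ Us i, ρ x z = z := fun i z hz =>
        congrArg Subtype.val (LinearMap.congr_fun (MonoidHom.mem_ker.1 ((QuotientGroup.eq_one_iff x).1 (hx i))) ⟨z, hz⟩)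
      rw [map_one, Module.End.one_apply, map_add, key true a ha, key false c hc])
  refine h.mono ?_
  rw [Fintype.prod_bool, ← pow_add]
  refine Nat.pow_le_pow_right (by norm_num) ?_
  show Module.finrank K U - 1 + (Module.finrank K C - 1) ≤ d - 1
  omega

theorem bound_imprimitive {K : Type w} [Field K] [IsAlgClosed K] [CharZero K] {d : ℕ}
    (ih : ∀ b < d, Bound.{u, v} K b) {V : Type v} [AddCommGroup V] [Module K V] [FiniteDimensional K V]
    [Nontrivial V] {G : Type u} [Group G] [Finite G] [Group.IsSolvable G] (ρ : Representation K G V)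
    (hρ : Function.Injective ρ) (hd : Module.finrank K V = d)
    (hirr : ∀ U : Submodule K V, (∀ g : G, ∀ u ∈ U, ρ g u ∈ U) → U = ⊥ ∨ U = ⊤)
    (A : Subgroup G) (hAn : A.Normal) (hAc : ∀ a ∈ A, ∀ b ∈ A, a * b = b * a)
    (hns : ∃ a ∈ A, ∀ k : K, ρ a ≠ k • 1) :
    SubCls (G ⧸ Cfsg.fittingSubgroup G) (3 ^ (d - 1)) := by
  classical
  obtain ⟨ι, hι, act, E, i0, horth, hsum, heq, htr, hne, j, hj⟩ := exists_weights ρ hirr A hAn hAc hns
  -- coarsen to a primitive permutation action
  have hst : stabilizer G i0 ≠ ⊤ := fun h => by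
    obtain ⟨g, hg⟩ := htr j
    have : g ∈ stabilizer G i0 := h ▸ Subgroup.mem_top g
    exact hj (hg.symm.trans this)
  obtain ⟨M, hM, hle⟩ := (eq_top_or_exists_le_coatom (stabilizer G i0)).resolve_left hst
  choose sec hsec using htr
  let π : ι → G ⧸ M := fun i => (sec i : G ⧸ M)
  have hπ : ∀ (g : G) i, π (g • i) = g • π i := fun g i => by
    show ((sec (g • i) : G) : G ⧸ M) = ((g * sec i : G) : G ⧸ M)
    refine QuotientGroup.eq.2 (hle ?_)
    rw [mem_stabilizer_iff, mul_smul, inv_smul_eq_iff, hsec, mul_smul, hsec]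
  haveI := Fintype.ofFinite (G ⧸ M)
  let F : G ⧸ M → Module.End K V := fun q => ∑ i ∈ Finset.univ.filter (fun i => π i = q), E i
  have hFE : ∀ q i, F q * E i = if π i = q then E i else 0 := fun q i => by
    simp only [F, Finset.sum_mul, horth]
    rw [Finset.sum_ite_eq']
    simp
  have hFF : ∀ q r, F q * F r = if q = r then F q else 0 := fun q r => by
    show F q * (∑ i ∈ Finset.univ.filter (fun i => π i = r), E i) = _
    rw [Finset.mul_sum]
    simp only [hFE]
    split_ifs with h
    · subst h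
      exact Finset.sum_congr rfl fun i hi => if_pos (Finset.mem_filter.1 hi).2
    · exact Finset.sum_eq_zero fun i hi => if_neg fun e => h (e.symm.trans (Finset.mem_filter.1 hi).2)
  have hFsum : ∑ q, F q = 1 := by
    simp only [F]
    rw [Finset.sum_fiberwise, hsum]
  have hFeq : ∀ (g : G) q, ρ g * F q = F (g • q) * ρ g := fun g q => by
    simp only [F, Finset.mul_sum, Finset.sum_mul]
    refine Finset.sum_equiv (MulAction.toPerm g) (fun i => ?_) fun i _ => heq g i
    simp [hπ]
  let Vq : G ⧸ M → Submodule K V := fun q => LinearMap.range (F q)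
  have hfix : ∀ q, ∀ z ∈ Vq q, F q z = z := by
    rintro q _ ⟨z, rfl⟩
    rw [← Module.End.mul_apply, hFF, if_pos rfl]
  have hmap : ∀ g q, ∀ z ∈ Vq q, ρ g z ∈ Vq (g • q) := fun g q z hz => ⟨ρ g z, by
    have h := LinearMap.congr_fun (hFeq g q) z
    rw [Module.End.mul_apply, Module.End.mul_apply, hfix q z hz] at h
    exact h.symm⟩
  let q0 : G ⧸ M := ((1 : G) : G ⧸ M)
  have hdim : ∀ q q', Module.finrank K (Vq q) ≤ Module.finrank K (Vq q') := fun q q' => by
    obtain ⟨g, hg⟩ := exists_smul_eq G q q'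
    subst hg
    refine LinearMap.finrank_le_finrank_of_injective (f := (ρ g).restrict (hmap g q)) fun x y e => Subtype.ext ?_
    have e' : ρ g x.1 = ρ g y.1 := congrArg Subtype.val e
    have := congrArg (ρ g⁻¹) e'
    rwa [← Module.End.mul_apply, ← Module.End.mul_apply, ← map_mul, inv_mul_cancel, map_one] at this
  set b := Module.finrank K (Vq q0) with hb
  have hdq : ∀ q, Module.finrank K (Vq q) = b := fun q => le_antisymm (hdim q q0) (hdim q0 q)
  let e : V ≃ₗ[K] (∀ q, Vq q) :=
    { toFun := fun v q => ⟨F q v, v, rfl⟩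
      map_add' := fun x y => funext fun q => Subtype.ext (map_add (F q) x y)
      map_smul' := fun c x => funext fun q => Subtype.ext (map_smul (F q) c x)
      invFun := fun f => ∑ q, (f q).1
      left_inv := fun v => by
        show ∑ q, F q v = v
        rw [← LinearMap.sum_apply, hFsum, Module.End.one_apply]
      right_inv := fun f => funext fun q => Subtype.ext (by
        show F q (∑ r, (f r).1) = (f q).1
        rw [map_sum, Finset.sum_eq_single q (fun r _ hr => by
          rw [← hfix r _ (f r).2, ← Module.End.mul_apply, hFF, if_neg (Ne.symm hr), LinearMap.zero_apply])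
          (fun h => absurd (Finset.mem_univ q) h), hfix q _ (f q).2]) }
  set t := Fintype.card (G ⧸ M) with ht
  have hdt : d = b * t := by
    rw [← hd, e.finrank_eq, Module.finrank_pi_fintype K, Finset.sum_congr rfl fun q _ => hdq q,
      Finset.sum_const, Finset.card_univ, smul_eq_mul, mul_comm]
  have ht2 : 2 ≤ t := by
    rw [ht, ← Nat.card_eq_fintype_card]
    exact Subgroup.one_lt_index_of_ne_top hM.1
  have hd0 : 0 < d := hd ▸ Module.finrank_pos
  have hb0 : 0 < b := Nat.pos_of_ne_zero fun e0 => by rw [hdt, e0, zero_mul] at hd0; exact lt_irrefl 0 hd0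
  have hbd : b < d := hdt ▸ lt_mul_right hb0 ht2
  -- the kernel of the permutation action
  let B0 : Subgroup G := (toPermHom G (G ⧸ M)).ker
  haveI : B0.Normal := MonoidHom.normal_ker _
  let ρ0 : Representation K B0 V := (ρ : G →* Module.End K V).comp B0.subtype
  have hst0 : ∀ q, ∀ x : B0, ∀ z ∈ Vq q, ρ0 x z ∈ Vq q := fun q x z hz => by
    have h := hmap x.1 q z hz
    rwa [show x.1 • q = q from Equiv.Perm.congr_fun (MonoidHom.mem_ker.1 x.2) q] at h
  let Nq : G ⧸ M → Subgroup B0 := fun q =>
    MonoidHom.ker (resRep ρ0 (Vq q) (hst0 q) : B0 →* Module.End K (Vq q))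
  haveI : ∀ q, (Nq q).Normal := fun q => MonoidHom.normal_ker _
  have hB0 := SubCls.fitting_pi (A := fun q => B0 ⧸ Nq q) (b := fun _ => 3 ^ (b - 1))
    (fun q => piece ih ρ0 hbd (Vq q) (hst0 q) (hdq q)) (fun q => QuotientGroup.mk' (Nq q))
    fun x hx => Subtype.ext (hρ (LinearMap.ext fun v => by
      have key : ∀ q, ρ x.1 (F q v) = F q v := fun q =>
        congrArg Subtype.val (LinearMap.congr_fun (MonoidHom.mem_ker.1 ((QuotientGroup.eq_one_iff x).1 (hx q)))
          ⟨F q v, v, rfl⟩)
      have hv : ∑ q, F q v = v := e.left_inv v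
      rw [OneMemClass.coe_one, map_one, Module.End.one_apply]
      conv_lhs => rw [← hv]
      rw [map_sum, Finset.sum_congr rfl fun q _ => key q, hv]))
  rw [Finset.prod_const, Finset.card_univ] at hB0
  -- the top
  haveI : Nontrivial (G ⧸ M) := Fintype.one_lt_card_iff_nontrivial.1 ht2
  haveI : IsPreprimitive G (G ⧸ M) :=
    (isCoatom_stabilizer_iff_preprimitive G q0).1 (by rw [stabilizer_quotient]; exact hM)
  let R := (toPermHom G (G ⧸ M)).range
  haveI : Group.IsSolvable R :=
    Group.isSolvable_of_surjective (toPermHom G (G ⧸ M)).rangeRestrict_surjective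
  have hR : IsPreprimitive R (G ⧸ M) :=
    IsPreprimitive.of_surjective (φ := (toPermHom G (G ⧸ M)).rangeRestrict)
      (f := { toFun := id, map_smul' := fun g x => rfl }) Function.surjective_id
  have htop : SubCls (G ⧸ B0) (3 ^ (t - 1)) := by
    refine SubCls.of_card ?_
    rw [← Subgroup.index_eq_card, Subgroup.index_ker]
    have := prim_bound (G := R) hR
    rwa [Nat.card_eq_fintype_card (α := G ⧸ M)] at this
  -- join
  let πF := QuotientGroup.mk' (Cfsg.fittingSubgroup G)
  let N := B0.map πF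
  haveI : N.Normal := Subgroup.Normal.map inferInstance πF (QuotientGroup.mk'_surjective _)
  let f0 : B0 →* N :=
    { toFun := fun x => ⟨πF x.1, x.1, x.2, rfl⟩
      map_one' := Subtype.ext (map_one πF)
      map_mul' := fun x y => Subtype.ext (map_mul πF x.1 y.1) }
  have hf0 : Cfsg.fittingSubgroup B0 ≤ f0.ker := fun x hx => Subtype.ext ((QuotientGroup.eq_one_iff x.1).2
    ((Core.map_fittingSubgroup_normal B0).le ⟨x, hx, rfl⟩).1)
  have hN : SubCls N ((3 ^ (b - 1)) ^ t) := hB0.of_surjective (QuotientGroup.lift _ f0 hf0) (by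
    rintro ⟨_, x, hx, rfl⟩
    exact ⟨((⟨x, hx⟩ : B0) : B0 ⧸ Cfsg.fittingSubgroup B0), rfl⟩)
  have hQ : SubCls ((G ⧸ Cfsg.fittingSubgroup G) ⧸ N) (3 ^ (t - 1)) :=
    htop.of_surjective (QuotientGroup.lift B0 ((QuotientGroup.mk' N).comp πF) fun x hx =>
      (QuotientGroup.eq_one_iff (πF x)).2 ⟨x, hx, rfl⟩) (by
      intro y
      obtain ⟨z, rfl⟩ := QuotientGroup.mk'_surjective N y
      obtain ⟨x, rfl⟩ := QuotientGroup.mk'_surjective (Cfsg.fittingSubgroup G) z
      exact ⟨(x : G ⧸ B0), rfl⟩)
  refine (SubCls.ext_normal N hN hQ).mono ?_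
  rw [← pow_mul, ← pow_add, hdt]
  refine Nat.pow_le_pow_right (by norm_num) ?_
  obtain ⟨b', hb'⟩ : ∃ b', b = b' + 1 := ⟨b - 1, by omega⟩
  rw [hb', Nat.add_sub_cancel, add_mul, one_mul]
  omega

/-- The main theorem. -/
theorem bound_all (K : Type w) [Field K] [IsAlgClosed K] [CharZero K] : ∀ d, Bound.{u, v} K d := by
  intro d
  induction d using Nat.strong_induction_on with
  | _ d ih =>
  intro V _ _ _ G _ _ _ ρ hρ hd
  classical
  rcases subsingleton_or_nontrivial V with hV | hV
  · haveI : Subsingleton G := ⟨fun x y => hρ (LinearMap.ext fun v => Subsingleton.elim _ _)⟩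
    refine SubCls.of_card ?_
    rw [Nat.card_of_subsingleton (1 : G ⧸ Cfsg.fittingSubgroup G)]
    exact Nat.one_le_pow _ _ (by norm_num)
  by_cases hirr : ∀ U : Submodule K V, (∀ g : G, ∀ u ∈ U, ρ g u ∈ U) → U = ⊥ ∨ U = ⊤
  swap
  · push Not at hirr
    obtain ⟨U, hU, hU0, hU1⟩ := hirr
    exact bound_reducible ih ρ hρ hd U hU hU0 hU1
  by_cases hsc : ScalarAbelian ρ
  · exact hd ▸ subCls_primitive hρ hsc
  rw [ScalarAbelian] at hsc
  push Not at hsc
  obtain ⟨A, hAn, hAc, hns⟩ := hsc
  exact bound_imprimitive ih ρ hρ hd hirr A hAn hAc hns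

end Cfsg.Agent.SolvLinQuot
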