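import Cfsg.Agent.SolvLinQuot.Sub
import Cfsg.Agent.ClassBoundSq.Heis

/-!
Alternating pairings of finite abelian groups into the units of a field.
-/

set_option autoImplicit false
set_option linter.style.haveILetI false
set_option linter.unusedSectionVars false

namespace Cfsg.Agent.SolvLinQuot

universe u v

/-- A nondegenerate alternating pairing. -/
structure Form (K : Type v) [Field K] (W : Type u) [CommGroup W] where
  pair : W →* W →* Kˣ
  self : ∀ u, pair u u = 1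
  inj : Function.Injective pair

namespace Form

variable {K : Type v} [Field K] {W : Type u} [CommGroup W] (Φ : Form K W)

/-- The automorphisms in `X` preserve the pairing. -/
def Pres (X : Subgroup (MulAut W)) : Prop := ∀ φ ∈ X, ∀ u v, Φ.pair (φ u) (φ v) = Φ.pair u v

/-- Invariance under `X`. -/
def Stable (X : Subgroup (MulAut W)) (U : Subgroup W) : Prop := ∀ φ ∈ X, ∀ u ∈ U, φ u ∈ U

/-- No invariant totally isotropic subgroup. -/
def Nd (X : Subgroup (MulAut W)) : Prop :=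
  ∀ U : Subgroup W, Stable X U → (∀ u ∈ U, ∀ v ∈ U, Φ.pair u v = 1) → U = ⊥

theorem symm_inv (u v : W) : Φ.pair v u = (Φ.pair u v)⁻¹ := by
  have h := Φ.self (u * v)
  simp only [map_mul, MonoidHom.mul_apply, Φ.self, one_mul, mul_one] at h
  exact eq_inv_of_mul_eq_one_left h

/-- The orthogonal. -/
def perp (U : Subgroup W) : Subgroup W where
  carrier := {u | ∀ v ∈ U, Φ.pair u v = 1}
  one_mem' := fun v _ => by rw [map_one, MonoidHom.one_apply]
  mul_mem' := fun {a b} ha hb v hv => by rw [map_mul, MonoidHom.mul_apply, ha v hv, hb v hv, one_mul]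
  inv_mem' := fun {a} ha v hv => by rw [map_inv, MonoidHom.inv_apply, ha v hv, inv_one]

theorem mem_perp {U : Subgroup W} {u : W} : u ∈ Φ.perp U ↔ ∀ v ∈ U, Φ.pair u v = 1 := Iff.rfl

theorem stable_perp {X : Subgroup (MulAut W)} (hX : Φ.Pres X) {U : Subgroup W} (hU : Stable X U) :
    Stable X (Φ.perp U) := fun φ hφ u hu v hv => by
  have h1 := hU φ⁻¹ (X.inv_mem hφ) v hv
  rw [← MulEquiv.apply_symm_apply φ v, hX φ hφ]
  exact hu _ h1

theorem eq_one_of_pair {u : W} (h : ∀ v, Φ.pair u v = 1) : u = 1 :=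
  Φ.inj ((MonoidHom.ext h : Φ.pair u = 1).trans (map_one _).symm)

variable [Finite W]

theorem card_le_mul_perp (U : Subgroup W) : Nat.card W ≤ Nat.card U * Nat.card (Φ.perp U) := by
  obtain ⟨hfin, hc⟩ := ClassBoundSq.card_hom_le U K
  let f : W →* U →* Kˣ := MonoidHom.mk' (fun u => (Φ.pair u).comp U.subtype) fun a b => by
    ext x
    simp
  have hker : f.ker = Φ.perp U := by
    ext u
    exact ⟨fun h v hv => DFunLike.congr_fun h ⟨v, hv⟩, fun h => MonoidHom.ext fun v => h v.1 v.2⟩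
  rw [← f.ker.index_mul_card, Subgroup.index_ker, hker]
  exact Nat.mul_le_mul_right _ ((Nat.card_le_card_of_injective _ Subtype.val_injective).trans hc)

include Φ in
/-- The order is a square. -/
theorem exists_sq : ∃ e, 0 < e ∧ Nat.card W = e ^ 2 := by
  obtain ⟨I, hI, hmax⟩ := Set.Finite.exists_maximal
    (Set.toFinite {I : Subgroup W | ∀ u ∈ I, ∀ v ∈ I, Φ.pair u v = 1})
    ⟨⊥, fun u hu v _ => by rw [Subgroup.mem_bot.1 hu, map_one, MonoidHom.one_apply]⟩
  refine ⟨Nat.card I, Nat.card_pos, ?_⟩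
  have hperp : Φ.perp I = I := by
    refine le_antisymm (fun u hu => ?_) fun u hu v hv => hI u hu v hv
    have hJ : ∀ x ∈ I ⊔ Subgroup.zpowers u, ∀ y ∈ I ⊔ Subgroup.zpowers u, Φ.pair x y = 1 := by
      intro x hx y hy
      obtain ⟨a, ha, _, ⟨i, rfl⟩, rfl⟩ := Subgroup.mem_sup.1 hx
      obtain ⟨b, hb, _, ⟨j, rfl⟩, rfl⟩ := Subgroup.mem_sup.1 hy
      simp [hI a ha b hb, hu b hb, Φ.symm_inv u a, hu a ha, Φ.self]
    exact hmax hJ le_sup_left (Subgroup.mem_sup_right (Subgroup.mem_zpowers u))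
  have h1 := Φ.card_le_mul_perp I
  rw [hperp] at h1
  obtain ⟨hfin, hc⟩ := ClassBoundSq.card_hom_le (W ⧸ I) K
  let ψ : I →* (W ⧸ I) →* Kˣ := MonoidHom.mk'
    (fun a => QuotientGroup.lift I (Φ.pair a) fun v hv => hI a a.2 v hv) fun a a' =>
      QuotientGroup.monoidHom_ext _ <| MonoidHom.ext fun v => by
        show Φ.pair (a * a' : I).1 v = Φ.pair a.1 v * Φ.pair a'.1 v
        simp
  have hψ : Function.Injective ψ := (injective_iff_map_eq_one ψ).2 fun a ha => Subtype.ext <|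
    Φ.eq_one_of_pair fun v => DFunLike.congr_fun ha (v : W ⧸ I)
  have h2 : Nat.card I ≤ I.index := (Nat.card_le_card_of_injective ψ hψ).trans hc
  have h3 := Nat.mul_le_mul_right (Nat.card I) h2
  rw [I.index_mul_card] at h3
  rw [sq]
  omega

/-- The pairing on a nondegenerate subgroup. -/
noncomputable def restrict (U : Subgroup W) (h : U ⊓ Φ.perp U = ⊥) : Form K U where
  pair := MonoidHom.mk' (fun a => (Φ.pair a.1).comp U.subtype) fun a b => by
    ext x
    simp
  self u := Φ.self u.1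
  inj := (injective_iff_map_eq_one _).2 fun a ha => Subtype.ext <| Subgroup.mem_bot.1 <|
    h ▸ (⟨a.2, fun v hv => DFunLike.congr_fun ha ⟨v, hv⟩⟩ : a.1 ∈ U ⊓ Φ.perp U)

end Form

/-- Restriction of automorphisms to a stable subgroup. -/
def resHom {W : Type u} [CommGroup W] (X : Subgroup (MulAut W)) (U : Subgroup W) (hU : Form.Stable X U) :
    X →* MulAut U where
  toFun φ :=
    { toFun := fun x => ⟨φ.1 x.1, hU φ.1 φ.2 x.1 x.2⟩
      invFun := fun x => ⟨φ.1⁻¹ x.1, hU φ.1⁻¹ (X.inv_mem φ.2) x.1 x.2⟩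
      left_inv := fun x => Subtype.ext (φ.1.symm_apply_apply x.1)
      right_inv := fun x => Subtype.ext (φ.1.apply_symm_apply x.1)
      map_mul' := fun x y => Subtype.ext (map_mul φ.1 x.1 y.1) }
  map_one' := MulEquiv.ext fun _ => rfl
  map_mul' _ _ := MulEquiv.ext fun _ => rfl

theorem resHom_apply {W : Type u} [CommGroup W] (X : Subgroup (MulAut W)) (U : Subgroup W)
    (hU : Form.Stable X U) (φ : X) (x : U) : (resHom X U hU φ x).1 = φ.1 x.1 := rfl

namespace Form

variable {K : Type v} [Field K] {W : Type u} [CommGroup W] [Finite W] (Φ : Form K W)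
  {X : Subgroup (MulAut W)}

theorem stable_map {U : Subgroup W} (hU : Stable X U) {Y : Subgroup U}
    (hY : Stable (resHom X U hU).range Y) : Stable X (Y.map U.subtype) := by
  rintro φ hφ _ ⟨y, hy, rfl⟩
  exact ⟨_, hY _ ⟨⟨φ, hφ⟩, rfl⟩ y hy, rfl⟩

theorem pres_restrict (hX : Φ.Pres X) {U : Subgroup W} (hU : Stable X U) (h : U ⊓ Φ.perp U = ⊥) :
    (Φ.restrict U h).Pres (resHom X U hU).range := by
  rintro _ ⟨φ, rfl⟩ u v
  exact hX φ.1 φ.2 u.1 v.1

theorem nd_restrict (hn : Φ.Nd X) {U : Subgroup W} (hU : Stable X U) (h : U ⊓ Φ.perp U = ⊥) :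
    (Φ.restrict U h).Nd (resHom X U hU).range := fun Y hY hiso => by
  have := hn (Y.map U.subtype) (stable_map hU hY) (by
    rintro _ ⟨a, ha, rfl⟩ _ ⟨b, hb, rfl⟩
    exact hiso a ha b hb)
  exact (Subgroup.map_eq_bot_iff_of_injective _ U.subtype_injective).1 this

theorem inf_perp (hX : Φ.Pres X) (hn : Φ.Nd X) {U : Subgroup W} (hU : Stable X U) : U ⊓ Φ.perp U = ⊥ :=
  hn _ (fun φ hφ w hw => ⟨hU φ hφ w hw.1, Φ.stable_perp hX hU φ hφ w hw.2⟩) fun _ hu v hv => hu.2 v hv.1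

theorem sup_perp_of_inf {U : Subgroup W} (hd : U ⊓ Φ.perp U = ⊥) :
    U ⊔ Φ.perp U = ⊤ ∧ Nat.card U * Nat.card (Φ.perp U) = Nat.card W := by
  let f : U × Φ.perp U → W := fun x => x.1.1 * x.2.1
  have hf : Function.Injective f := fun x y e => by
    have h1 : x.1.1 / y.1.1 = y.2.1 / x.2.1 := by
      rw [div_eq_div_iff_mul_eq_mul, mul_comm y.2.1]; exact e
    have h2 : x.1.1 / y.1.1 ∈ U ⊓ Φ.perp U :=
      ⟨U.div_mem x.1.2 y.1.2, h1 ▸ (Φ.perp U).div_mem y.2.2 x.2.2⟩
    rw [hd, Subgroup.mem_bot, div_eq_one] at h2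
    exact Prod.ext (Subtype.ext h2) (Subtype.ext (by
      simp only [f] at e; rw [h2] at e; exact mul_left_cancel e))
  have hb := hf.bijective_of_nat_card_le (by rw [Nat.card_prod]; exact Φ.card_le_mul_perp U)
  refine ⟨(Subgroup.eq_top_iff' _).2 fun w => ?_, ?_⟩
  · obtain ⟨x, hx⟩ := hb.2 w
    exact hx ▸ Subgroup.mul_mem_sup x.1.2 x.2.2
  · rw [← Nat.card_prod]
    exact Nat.card_eq_of_bijective f hb

theorem sup_perp (hX : Φ.Pres X) (hn : Φ.Nd X) {U : Subgroup W} (hU : Stable X U) :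
    U ⊔ Φ.perp U = ⊤ ∧ Nat.card U * Nat.card (Φ.perp U) = Nat.card W :=
  Φ.sup_perp_of_inf (Φ.inf_perp hX hn hU)

/-- Splitting along a stable subgroup. -/
theorem subCls_split (hX : Φ.Pres X) (hn : Φ.Nd X) {U : Subgroup W} (hU : Stable X U) {a b : ℕ}
    (ha : SubCls (resHom X U hU).range a)
    (hb : SubCls (resHom X (Φ.perp U) (Φ.stable_perp hX hU)).range b) : SubCls X (a * b) := by
  refine (ha.prod hb).of_injective
    ((resHom X U hU).rangeRestrict.prod (resHom X (Φ.perp U) (Φ.stable_perp hX hU)).rangeRestrict) ?_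
  refine (injective_iff_map_eq_one _).2 fun φ hφ => Subtype.ext (MulEquiv.ext fun w => ?_)
  obtain ⟨x, hx, y, hy, rfl⟩ := Subgroup.mem_sup.1
    (show w ∈ U ⊔ Φ.perp U by rw [(Φ.sup_perp hX hn hU).1]; exact Subgroup.mem_top w)
  have h1 := congrArg (fun z => (z.1.1 ⟨x, hx⟩).1) hφ
  have h2 := congrArg (fun z => (z.2.1 ⟨y, hy⟩).1) hφ
  show φ.1 (x * y) = x * y
  rw [map_mul]
  exact congrArg₂ (· * ·) h1 h2

end Form

end Cfsg.Agent.SolvLinQuot
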