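import Cfsg.Agent.SolvLinQuot.Tables

/-!
Degree four.
-/

set_option autoImplicit false
set_option maxHeartbeats 1000000
set_option linter.style.haveILetI false
set_option linter.unusedSectionVars false

namespace Cfsg.Agent.SolvLinQuot

open ClassBoundSq

universe u v

/-- A group of automorphisms on the additive copy. -/
@[reducible] def addAct {W : Type u} [CommGroup W] (X : Subgroup (MulAut W)) :
    DistribMulAction X (Additive W) where
  smul φ x := Additive.ofMul (φ.1 x.toMul)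
  one_smul _ := rfl
  mul_smul _ _ _ := rfl
  smul_zero φ := congrArg Additive.ofMul (map_one φ.1)
  smul_add φ x y := congrArg Additive.ofMul (map_mul φ.1 x.toMul y.toMul)

theorem addAct_faithful {W : Type u} [CommGroup W] (X : Subgroup (MulAut W)) :
    letI := addAct X
    ∀ φ : X, (∀ x : Additive W, φ • x = x) → φ = 1 := by
  letI := addAct X
  intro φ h
  exact Subtype.ext (MulEquiv.ext fun w => congrArg Additive.toMul (h (Additive.ofMul w)))

theorem addAct_irr {W : Type u} [CommGroup W] {X : Subgroup (MulAut W)}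
    (hirr : ∀ U : Subgroup W, Form.Stable X U → U = ⊥ ∨ U = ⊤) :
    letI := addAct X
    ∀ U : AddSubgroup (Additive W), (∀ φ : X, ∀ x ∈ U, φ • x ∈ U) → U = ⊥ ∨ U = ⊤ := by
  letI := addAct X
  intro U hU
  rcases hirr (AddSubgroup.toSubgroup' U) (fun φ hφ w hw => hU ⟨φ, hφ⟩ (Additive.ofMul w) hw) with h | h
  · exact Or.inl (AddSubgroup.toSubgroup'.injective (h.trans (by ext; simp)))
  · exact Or.inr (AddSubgroup.toSubgroup'.injective (h.trans (by ext; simp)))

theorem stable_closure {W : Type u} [CommGroup W] {Y : Subgroup (MulAut W)} {s : Set W}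
    (h : ∀ φ ∈ Y, ∀ x ∈ s, φ x ∈ Subgroup.closure s) : Form.Stable Y (Subgroup.closure s) := fun φ hφ =>
  (Subgroup.closure_le ((Subgroup.closure s).comap φ.toMonoidHom)).2 (h φ hφ)

theorem modEq_one {W : Type u} [CommGroup W] [Finite W] {q : ℕ} [Fact q.Prime] (Z : Subgroup (MulAut W))
    (hZ : IsPGroup q Z) (H : Subgroup W) (hH : Form.Stable Z H)
    (hfix : ∀ x ∈ H, (∀ φ ∈ Z, φ x = x) → x = 1) : Nat.card H ≡ 1 [MOD q] := by
  letI : MulAction Z H := MulAction.compHom H (resHom Z H hH)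
  have h := hZ.card_modEq_card_fixedPoints H
  have : Nat.card (MulAction.fixedPoints Z H) = 1 := by
    refine Nat.card_eq_one_iff_unique.2 ⟨⟨fun x y => ?_⟩, ⟨⟨1, fun φ => map_one (resHom Z H hH φ)⟩⟩⟩
    have hx : ∀ z : MulAction.fixedPoints Z H, z.1.1 = 1 := fun z =>
      hfix z.1.1 z.1.2 fun φ hφ => congrArg Subtype.val (z.2 ⟨φ, hφ⟩)
    exact Subtype.ext (Subtype.ext ((hx x).trans (hx y).symm))
  rwa [this] at h

namespace Form

variable {K : Type v} [Field K] {W : Type u} [CommGroup W] [Finite W] (Φ : Form K W)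
  {X : Subgroup (MulAut W)}

/-- The plane through an element and its image. -/
theorem plane (hX : Φ.Pres X) (hW : Nat.card W = 16) (h2 : ∀ x : W, x ^ 2 = 1) {ψ : MulAut W}
    (hψ : ψ ∈ X) (hψψ : ∀ x, ψ (ψ x) = x * ψ x) {w : W} (hw : Φ.pair w (ψ w) ≠ 1) :
    Nat.card (Φ.perp (Subgroup.closure ({w, ψ w} : Set W))) = 4 ∧
      Subgroup.closure ({w, ψ w} : Set W) ⊔ Φ.perp (Subgroup.closure ({w, ψ w} : Set W)) = ⊤ ∧
      Stable (Subgroup.zpowers ψ) (Subgroup.closure ({w, ψ w} : Set W)) ∧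
      Stable (Subgroup.zpowers ψ) (Φ.perp (Subgroup.closure ({w, ψ w} : Set W))) ∧
      ∀ x ∈ Subgroup.closure ({w, ψ w} : Set W), x ≠ 1 → Φ.pair x (ψ x) = Φ.pair w (ψ w) := by
  classical
  set U := Subgroup.closure ({w, ψ w} : Set W) with hU
  have hz : ∀ (x : W) (n : ℤ), x ^ n = 1 ∨ x ^ n = x := fun x n => by
    rcases Int.even_or_odd' n with ⟨k, rfl | rfl⟩
    · exact Or.inl (by rw [zpow_mul, zpow_two, ← sq, h2, one_zpow])
    · exact Or.inr (by rw [zpow_add_one, zpow_mul, zpow_two, ← sq, h2, one_zpow, one_mul])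
  have hel : ∀ x ∈ U, x = 1 ∨ x = w ∨ x = ψ w ∨ x = w * ψ w := fun x hx => by
    obtain ⟨m, n, rfl⟩ := Subgroup.mem_closure_pair.1 hx
    rcases hz w m with h | h <;> rcases hz (ψ w) n with h' | h' <;> simp [h, h']
  have hs : Φ.pair (ψ w) w ≠ 1 := fun h => hw (by rw [Φ.symm_inv (ψ w) w, h, inv_one])
  have hd : U ⊓ Φ.perp U = ⊥ := (Subgroup.eq_bot_iff_forall _).2 fun x hx => by
    have h1 := hx.2 w (Subgroup.subset_closure (by simp))
    have h3 := hx.2 (ψ w) (Subgroup.subset_closure (by simp))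
    rcases hel x hx.1 with rfl | rfl | rfl | rfl
    · rfl
    · exact absurd h3 hw
    · exact absurd h1 hs
    · rw [map_mul, MonoidHom.mul_apply, Φ.self, one_mul] at h1
      exact absurd h1 hs
  obtain ⟨hsup, hcard⟩ := Φ.sup_perp_of_inf hd
  have hw1 : w ≠ 1 := fun h => hw (by rw [h, map_one, MonoidHom.one_apply])
  have hne : w ≠ ψ w := fun h => hw (by rw [← h, Φ.self])
  have hU4 : Nat.card U = 4 := by
    have hsub : (U : Set W) = {1, w, ψ w, w * ψ w} := by
      ext x
      refine ⟨fun hx => by simpa using hel x hx, fun hx => ?_⟩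
      simp only [Set.mem_insert_iff, Set.mem_singleton_iff] at hx
      rcases hx with rfl | rfl | rfl | rfl
      exacts [U.one_mem, Subgroup.subset_closure (by simp), Subgroup.subset_closure (by simp),
        U.mul_mem (Subgroup.subset_closure (by simp)) (Subgroup.subset_closure (by simp))]
    have hψw1 : ψ w ≠ 1 := (map_ne_one_iff _ ψ.injective).2 hw1
    have hp1 : w * ψ w ≠ 1 := fun h => hne (by
      rw [← mul_left_inj (ψ w)] ; rw [h, ← sq, h2])
    have hp2 : w ≠ w * ψ w := fun h => hψw1 (left_eq_mul.1 h)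
    have hp3 : ψ w ≠ w * ψ w := fun h => hw1 (right_eq_mul.1 h)
    show Nat.card (U : Set W) = 4
    rw [hsub, Nat.card_coe_set_eq, Set.ncard_insert_of_notMem (by simp [hw1.symm, hψw1.symm, hp1.symm]),
      Set.ncard_insert_of_notMem (by simp [hne, hp2]), Set.ncard_pair hp3]
  rw [hU4, hW] at hcard
  have hst : Stable (Subgroup.zpowers ψ) U := by
    intro φ hφ
    have h1 : ψ ∈ Subgroup.zpowers ψ := Subgroup.mem_zpowers ψ
    have hle : U ≤ U.comap ψ.toMonoidHom := (Subgroup.closure_le _).2 (by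
      rintro x (rfl | rfl)
      · exact Subgroup.subset_closure (by simp)
      · show ψ (ψ w) ∈ U
        rw [hψψ]
        exact U.mul_mem (Subgroup.subset_closure (by simp)) (Subgroup.subset_closure (by simp)))
    obtain ⟨k, rfl⟩ := (mem_powers_iff_mem_zpowers.2 hφ : φ ∈ Submonoid.powers ψ)
    clear h1 hφ
    induction k with
    | zero => exact fun x hx => hx
    | succ k ih =>
      intro x hx
      show (ψ ^ (k + 1)) x ∈ U
      rw [pow_succ', MulAut.mul_apply]
      exact hle (ih x hx)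
  refine ⟨by omega, hsup, hst, Φ.stable_perp (fun φ hφ => hX φ ((Subgroup.zpowers_le.2 hψ) hφ)) hst, ?_⟩
  intro x hx hx1
  rcases hel x hx with rfl | rfl | rfl | rfl
  · exact absurd rfl hx1
  · rfl
  · exact hX ψ hψ w (ψ w)
  · rw [← hψψ w, hX ψ hψ, hX ψ hψ]

theorem centralizer_fpf_three (hX : Φ.Pres X) (hW : Nat.card W = 16) (h2 : ∀ x : W, x ^ 2 = 1) {ψ : X}
    (hψψ : ∀ x, ψ.1 (ψ.1 x) = x * ψ.1 x) (hne : ψ.1 * ψ.1 ≠ 1) :
    Nat.card (Subgroup.centralizer ({ψ} : Set X)) ≤ 18 := by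
  classical
  haveI := Fintype.ofFinite W
  obtain ⟨a, ha⟩ : ∃ a, Φ.pair a (ψ.1 a) ≠ 1 := by
    by_contra h
    push Not at h
    refine hne (MulEquiv.ext fun y => ?_)
    show ψ.1 (ψ.1 y) = y
    have key : ∀ x, Φ.pair x (ψ.1 (ψ.1 y) / y) = 1 := fun x => by
      have e := h (x * ψ.1 y)
      simp only [map_mul, MonoidHom.mul_apply, h x, h (ψ.1 y), one_mul, mul_one] at e
      rw [hX ψ.1 ψ.2 y x, Φ.symm_inv x y] at e
      rw [map_div, div_eq_mul_inv, mul_comm, e]
    refine div_eq_one.1 (Φ.eq_one_of_pair fun v => ?_)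
    rw [Φ.symm_inv v, key, inv_one]
  obtain ⟨hU1, hsup, hst0, hst1, hq0⟩ := Φ.plane hX hW h2 ψ.2 hψψ ha
  set U0 := Subgroup.closure ({a, ψ.1 a} : Set W) with hU0
  set U1 := Φ.perp U0 with hU1'
  have hsign : ∀ x y : W, Φ.pair x y = 1 ∨ Φ.pair x y = -1 := fun x y => by
    have h : (Φ.pair x y : K) ^ 2 = 1 := by
      rw [← Units.val_pow_eq_pow_val, ← map_pow, h2, map_one, Units.val_one]
    exact (sq_eq_one_iff.1 h).imp (fun h => Units.ext h) fun h => Units.ext (by simpa using h)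
  have hb : ∀ b ∈ U1, b ≠ 1 → Φ.pair b (ψ.1 b) ≠ 1 ∧
      ∀ c : W, c ∈ U1 → ∀ τ τ' : MulAut W, τ b = τ' b → τ (ψ.1 b) = τ' (ψ.1 b) → τ c = τ' c := by
    intro b hb hb1
    have hψb : ψ.1 b ∈ U1 := hst1 ψ.1 (Subgroup.mem_zpowers _) b hb
    have hni : (⟨ψ.1 b, hψb⟩ : U1) ∉ Subgroup.zpowers (⟨b, hb⟩ : U1) := fun hm => by
      obtain ⟨n, hn⟩ := Subgroup.mem_zpowers_iff.1 hm
      have e : b ^ n = ψ.1 b := by simpa using congrArg Subtype.val hn
      have e2 : ψ.1 (ψ.1 b) = b ^ (n * n) := by rw [← e, map_zpow, ← e, ← zpow_mul]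
      have e3 := hψψ b
      rw [e2] at e3
      rcases Int.even_or_odd' n with ⟨k, rfl | rfl⟩
      · rw [zpow_mul, zpow_two, ← sq, h2, one_zpow] at e
        exact hb1 ((map_eq_one_iff _ ψ.1.injective).1 e.symm)
      · rw [← e, ← zpow_one_add, show (2 * k + 1) * (2 * k + 1) = 2 * (2 * k * k + 2 * k) + 1 by ring,
          show 1 + (2 * k + 1) = 2 * (k + 1) by ring, zpow_add_one, zpow_mul, zpow_mul, zpow_two, ← sq, h2,
          one_zpow, one_zpow, one_mul] at e3
        exact hb1 e3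
    have hgen := gen_two Nat.prime_two (show Nat.card U1 = 2 ^ 2 by rw [hU1]; norm_num)
      (a := (⟨b, hb⟩ : U1)) (b := ⟨ψ.1 b, hψb⟩) (fun e => hb1 (congrArg Subtype.val e)) hni
    refine ⟨fun hq => hb1 (Φ.eq_one_of_pair fun v => ?_), fun c hc τ τ' e1 e2 => ?_⟩
    · obtain ⟨x, hx, y, hy, rfl⟩ := Subgroup.mem_sup.1 (show v ∈ U0 ⊔ U1 by rw [hsup]; exact Subgroup.mem_top v)
      have hy' : Φ.pair b y = 1 := by
        have h1 : Subgroup.closure ({⟨b, hb⟩, ⟨ψ.1 b, hψb⟩} : Set U1) ≤ ((Φ.pair b).comp U1.subtype).ker :=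
          (Subgroup.closure_le _).2 (by
            rintro z (rfl | rfl)
            exacts [Φ.self _, hq])
        exact h1 (hgen ▸ Subgroup.mem_top (⟨y, hy⟩ : U1))
      rw [map_mul, hb x hx, hy', one_mul]
    · exact DFunLike.congr_fun (MonoidHom.eq_of_eqOn_dense hgen (f := τ.toMonoidHom.comp U1.subtype)
        (g := τ'.toMonoidHom.comp U1.subtype) (by rintro z (rfl | rfl); exacts [e1, e2])) (⟨c, hc⟩ : U1)
  -- the elements with nontrivial value
  have hset : Nat.card {x : W // Φ.pair x (ψ.1 x) ≠ 1} ≤ 6 := by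
    have hsub : ∀ x : W, Φ.pair x (ψ.1 x) ≠ 1 → (x ∈ U0 ∧ x ≠ 1) ∨ (x ∈ U1 ∧ x ≠ 1) := by
      intro x hx
      have hx1 : x ≠ 1 := fun e => hx (by rw [e, map_one, MonoidHom.one_apply])
      obtain ⟨y, hy, z, hz, rfl⟩ := Subgroup.mem_sup.1 (show x ∈ U0 ⊔ U1 by rw [hsup]; exact Subgroup.mem_top x)
      by_cases hy1 : y = 1
      · exact Or.inr ⟨by rw [hy1, one_mul]; exact hz, hx1⟩
      by_cases hz1 : z = 1
      · exact Or.inl ⟨by rw [hz1, mul_one]; exact hy, hx1⟩
      exfalso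
      refine hx ?_
      have e1 : Φ.pair y (ψ.1 z) = 1 := by
        rw [Φ.symm_inv (ψ.1 z) y, hst1 ψ.1 (Subgroup.mem_zpowers _) z hz y hy, inv_one]
      have e2 : Φ.pair z (ψ.1 y) = 1 := hz _ (hst0 ψ.1 (Subgroup.mem_zpowers _) y hy)
      have q1 := (hsign y (ψ.1 y)).resolve_left (by rw [hq0 y hy hy1]; exact ha)
      have q2 := (hsign z (ψ.1 z)).resolve_left (hb z hz hz1).1
      simp only [map_mul, MonoidHom.mul_apply, e1, e2, q1, q2]
      simp
    have hc : ∀ U : Subgroup W, Nat.card U = 4 →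
        (Finset.univ.filter fun x : W => x ∈ U ∧ x ≠ 1).card = 3 := fun U hU => by
      have : (Finset.univ.filter fun x : W => x ∈ U ∧ x ≠ 1) = (Finset.univ.filter fun x : W => x ∈ U).erase 1 := by
        ext x; simp [and_comm]
      rw [this, Finset.card_erase_of_mem (by simp), ← Fintype.card_subtype, ← Nat.card_eq_fintype_card, hU]
    have hU0c : Nat.card U0 = 4 := by
      have h := (Φ.sup_perp_of_inf (U := U0) ((Subgroup.eq_bot_iff_forall _).2 fun x hx => by_contra fun hx1 =>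
        ha (by rw [← hq0 x hx.1 hx1]; exact hx.2 _ (hst0 ψ.1 (Subgroup.mem_zpowers _) x hx.1)))).2
      rw [← hU1', hU1, hW] at h
      omega
    rw [Nat.card_eq_fintype_card, Fintype.card_subtype]
    calc _ ≤ ((Finset.univ.filter fun x : W => x ∈ U0 ∧ x ≠ 1) ∪
          (Finset.univ.filter fun x : W => x ∈ U1 ∧ x ≠ 1)).card := Finset.card_le_card fun x hx => by
            simpa using hsub x (Finset.mem_filter.1 hx).2
      _ ≤ _ := Finset.card_union_le _ _
      _ = _ := by rw [hc U0 hU0c, hc U1 hU1]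
  obtain ⟨b, hbU, hb1⟩ : ∃ b ∈ U1, b ≠ 1 := (Subgroup.bot_or_exists_ne_one U1).resolve_left fun e => by
    rw [e, Subgroup.card_bot] at hU1
    omega
  have hcomm : ∀ c : Subgroup.centralizer ({ψ} : Set X), ∀ x, c.1.1 (ψ.1 x) = ψ.1 (c.1.1 x) := fun c x =>
    congrArg (fun z : X => z.1 x) (Subgroup.mem_centralizer_singleton_iff.1 c.2)
  let f : Subgroup.centralizer ({ψ} : Set X) → Σ x : {x : W // Φ.pair x (ψ.1 x) ≠ 1},
      {y : Φ.perp (Subgroup.closure ({x.1, ψ.1 x.1} : Set W)) // y ≠ 1} := fun c =>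
    ⟨⟨c.1.1 a, by rw [← hcomm c, hX c.1.1 c.1.2]; exact ha⟩, ⟨c.1.1 b, fun v hv => by
      have hle : Subgroup.closure ({c.1.1 a, ψ.1 (c.1.1 a)} : Set W) ≤ U0.map c.1.1.toMonoidHom :=
        (Subgroup.closure_le _).2 (by
          rintro z (rfl | rfl)
          · exact ⟨a, Subgroup.subset_closure (by simp), rfl⟩
          · exact ⟨ψ.1 a, Subgroup.subset_closure (by simp), hcomm c a⟩)
      obtain ⟨x, hx, rfl⟩ := hle hv
      exact (hX c.1.1 c.1.2 b x).trans (hbU x hx)⟩,
      fun e => hb1 ((map_eq_one_iff _ c.1.1.injective).1 (congrArg Subtype.val e))⟩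
  have hf : Function.Injective f := fun c d e => by
    have e1 : c.1.1 a = d.1.1 a := congrArg (fun z => (z.1 : W)) e
    have e2 : c.1.1 b = d.1.1 b := congrArg (fun z => (z.2.1.1 : W)) e
    refine Subtype.ext (Subtype.ext (MulEquiv.ext fun x => ?_))
    obtain ⟨y, hy, z, hz, rfl⟩ := Subgroup.mem_sup.1 (show x ∈ U0 ⊔ U1 by rw [hsup]; exact Subgroup.mem_top x)
    rw [map_mul, map_mul]
    refine congrArg₂ (· * ·) (MonoidHom.eqOn_closure (f := c.1.1.toMonoidHom) (g := d.1.1.toMonoidHom) ?_ hy)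
      ((hb b hbU hb1).2 z hz _ _ e2 (by rw [hcomm, hcomm, e2]))
    rintro w (rfl | rfl)
    · exact e1
    · show c.1.1 (ψ.1 a) = d.1.1 (ψ.1 a)
      rw [hcomm, hcomm, e1]
  refine (Nat.card_le_card_of_injective f hf).trans ?_
  haveI := Fintype.ofFinite {x : W // Φ.pair x (ψ.1 x) ≠ 1}
  rw [Nat.card_sigma]
  refine (Finset.sum_le_card_nsmul _ _ 3 fun x _ => ?_).trans ?_
  · have h4 := (Φ.plane hX hW h2 ψ.2 hψψ x.2).1
    haveI := Fintype.ofFinite (Φ.perp (Subgroup.closure ({x.1, ψ.1 x.1} : Set W)))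
    rw [Nat.card_eq_fintype_card, Fintype.card_subtype_compl, Fintype.card_subtype_eq,
      ← Nat.card_eq_fintype_card, h4]
  · rw [Finset.card_univ, ← Nat.card_eq_fintype_card, smul_eq_mul]
    omega

theorem centralizer_odd (hX : Φ.Pres X) (hW : Nat.card W = 16) (h2 : ∀ x : W, x ^ 2 = 1) {ψ : X}
    {q : ℕ} (hq : q.Prime) (hq2 : q ≠ 2) (hψq : ψ.1 ^ q = 1) (hψ1 : ψ ≠ 1) :
    Nat.card (Subgroup.centralizer ({ψ} : Set X)) ≤ 18 := by
  classical
  haveI := Fintype.ofFinite W
  haveI := Fact.mk hq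
  let d : W →* W := MonoidHom.mk' (fun x => ψ.1 x / x) fun x y => by rw [map_mul, mul_div_mul_comm]
  have hcomm : ∀ c : Subgroup.centralizer ({ψ} : Set X), ∀ x, c.1.1 (ψ.1 x) = ψ.1 (c.1.1 x) := fun c x =>
    congrArg (fun z : X => z.1 x) (Subgroup.mem_centralizer_singleton_iff.1 c.2)
  have hker : ∀ x, x ∈ d.ker ↔ ψ.1 x = x := fun x => div_eq_one
  have hUM : ∀ x ∈ d.range, ψ.1 x = x → x = 1 := by
    rintro _ ⟨w, rfl⟩ hx
    set x := d w with hxw
    have hs : ∀ i : ℕ, (ψ.1 ^ i) w = x ^ i * w := by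
      intro i
      induction i with
      | zero => simp
      | succ i ih =>
        rw [pow_succ', MulAut.mul_apply, ih, map_mul, map_pow, hx, pow_succ x, mul_assoc]
        congr 1
        show ψ.1 w = ψ.1 w / w * w
        rw [div_mul_cancel]
    have h := hs q
    rw [hψq, MulAut.one_apply] at h
    refine orderOf_eq_one_iff.1 (Nat.eq_one_of_dvd_coprimes ((Nat.coprime_primes hq Nat.prime_two).2 hq2)
      (orderOf_dvd_of_pow_eq_one (right_eq_mul.1 h)) (orderOf_dvd_of_pow_eq_one (h2 x)))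
  have hperp : ∀ u, ψ.1 u = u → ∀ m ∈ d.range, Φ.pair u m = 1 := by
    rintro u hu _ ⟨w, rfl⟩
    show Φ.pair u (ψ.1 w / w) = 1
    rw [map_div, div_eq_one]
    conv_lhs => rw [← hu]
    exact hX ψ.1 ψ.2 u w
  have hidx : Nat.card d.range * Nat.card d.ker = 16 := by
    rw [← Subgroup.index_ker, Subgroup.index_mul_card, hW]
  have hinj : Function.Injective fun x : d.ker × d.range => x.1.1 * x.2.1 := fun x y e => by
    simp only at e
    have h1 : x.1.1 / y.1.1 = y.2.1 / x.2.1 := by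
      rw [div_eq_div_iff_mul_eq_mul, mul_comm y.2.1]; exact e
    have h2' : x.1.1 / y.1.1 = 1 := hUM _ (h1 ▸ d.range.div_mem y.2.2 x.2.2) (by
      rw [map_div, (hker _).1 x.1.2, (hker _).1 y.1.2])
    rw [div_eq_one] at h2'
    exact Prod.ext (Subtype.ext h2') (Subtype.ext (by rw [h2'] at e; exact mul_left_cancel e))
  have hbij := hinj.bijective_of_nat_card_le (by rw [Nat.card_prod, mul_comm, hidx, hW])
  have hnd : d.ker ⊓ Φ.perp d.ker = ⊥ := (Subgroup.eq_bot_iff_forall _).2 fun u hu => Φ.eq_one_of_pair fun v => by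
    obtain ⟨⟨x, y⟩, rfl⟩ := hbij.2 v
    rw [map_mul, hu.2 x.1 x.2, hperp u ((hker u).1 hu.1) y.1 y.2, one_mul]
  obtain ⟨k, hk0, hk⟩ := (Φ.restrict d.ker hnd).exists_sq
  have hk4 : k ∣ 4 := by
    have : k ^ 2 ∣ 4 ^ 2 := ⟨Nat.card d.range, by rw [← hk]; linarith⟩
    exact (Nat.pow_dvd_pow_iff two_ne_zero).1 this
  have hstU : ∀ c : Subgroup.centralizer ({ψ} : Set X), ∀ x ∈ d.ker, c.1.1 x ∈ d.ker := fun c x hx =>
    (hker _).2 (by rw [← hcomm, (hker x).1 hx])
  have hk124 : k = 1 ∨ k = 2 ∨ k = 4 := by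
    have := Nat.le_of_dvd (by norm_num) hk4
    interval_cases k <;> first | omega | (norm_num at hk4)
  rcases hk124 with rfl | rfl | rfl
  · -- no fixed points
    have hfpf : ∀ x, ψ.1 x = x → x = 1 := fun x hx => by
      haveI : Subsingleton d.ker := (Nat.card_eq_one_iff_unique.1 (hk.trans (one_pow 2))).1
      exact congrArg Subtype.val (Subsingleton.elim (⟨x, (hker x).2 hx⟩ : d.ker) 1)
    have hord : orderOf ψ.1 = q := orderOf_eq_prime hψq fun e => hψ1 (Subtype.ext e)
    have hP : IsPGroup q (Subgroup.zpowers ψ.1) := IsPGroup.of_card (n := 1) (by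
      rw [Nat.card_zpowers, hord, pow_one])
    have hmod : ∀ H : Subgroup W, Stable (Subgroup.zpowers ψ.1) H → Nat.card H ≡ 1 [MOD q] := fun H hH =>
      modEq_one _ hP H hH fun x _ hx => hfpf x (hx _ (Subgroup.mem_zpowers _))
    have h15 : q ∣ 15 := by
      have h := hmod ⊤ fun _ _ _ _ => Subgroup.mem_top _
      rw [Subgroup.card_top, hW] at h
      exact (Nat.modEq_iff_dvd' (by norm_num)).1 h.symm
    have hq35 : q = 3 ∨ q = 5 := by
      have := Nat.le_of_dvd (by norm_num) h15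
      interval_cases q <;> first | omega | (norm_num at h15; done) | (norm_num at hq; done)
    rcases hq35 with rfl | rfl
    · refine Φ.centralizer_fpf_three hX hW h2 (fun x => ?_) fun e => hψ1 (Subtype.ext ?_)
      · have h3 : ψ.1 (ψ.1 (ψ.1 x)) = x := by
          have := DFunLike.congr_fun hψq x
          simpa [pow_succ] using this
        have := hfpf (x * ψ.1 x * ψ.1 (ψ.1 x)) (by rw [map_mul, map_mul, h3, mul_comm, mul_assoc])
        rw [mul_eq_one_iff_eq_inv'] at this
        rw [this, inv_eq_iff_mul_eq_one, ← sq, h2]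
      · calc ψ.1 = ψ.1 ^ 3 * (ψ.1 * ψ.1)⁻¹ := by group
          _ = 1 := by rw [hψq, e, inv_one, mul_one]
    · haveI : Nontrivial W := Finite.one_lt_card_iff_nontrivial.1 (by omega)
      obtain ⟨w, hw⟩ := exists_ne (1 : W)
      let H : Subgroup W := Subgroup.closure (Set.range fun φ : Subgroup.zpowers ψ.1 => φ.1 w)
      have hH : Stable (Subgroup.zpowers ψ.1) H := stable_closure (by
        rintro φ hφ _ ⟨χ, rfl⟩
        exact Subgroup.subset_closure ⟨⟨φ, hφ⟩ * χ, rfl⟩)
      have hwH : w ∈ H := Subgroup.subset_closure ⟨1, rfl⟩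
      have hHtop : H = ⊤ := by
        refine Subgroup.eq_top_of_card_eq _ ?_
        obtain ⟨i, hi, hci⟩ := (Nat.dvd_prime_pow Nat.prime_two).1
          (show Nat.card H ∣ 2 ^ 4 by rw [show 2 ^ 4 = Nat.card W by rw [hW]; norm_num]; exact H.card_subgroup_dvd_card)
        have hm := hmod H hH
        rw [hci] at hm ⊢
        rw [hW]
        interval_cases i
        · exfalso
          haveI : Subsingleton H := (Nat.card_eq_one_iff_unique.1 (hci.trans (pow_zero 2))).1
          exact hw (congrArg Subtype.val (Subsingleton.elim (⟨w, hwH⟩ : H) 1))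
        · exact absurd hm (by decide)
        · exact absurd hm (by decide)
        · exact absurd hm (by decide)
        · norm_num
      refine le_trans (Nat.card_le_card_of_injective (fun c : Subgroup.centralizer ({ψ} : Set X) =>
        (⟨c.1.1 w, (map_ne_one_iff _ c.1.1.injective).2 hw⟩ : {x : W // x ≠ 1})) fun c e h => ?_) ?_
      · have h' : c.1.1 w = e.1.1 w := congrArg Subtype.val h
        refine Subtype.ext (Subtype.ext (MulEquiv.ext fun x => DFunLike.congr_fun
          (MonoidHom.eq_of_eqOn_dense hHtop (f := c.1.1.toMonoidHom) (g := e.1.1.toMonoidHom) ?_) x))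
        rintro _ ⟨φ, rfl⟩
        obtain ⟨i, hi⟩ := φ.2
        show c.1.1 (φ.1 w) = e.1.1 (φ.1 w)
        have hpow : ∀ τ : Subgroup.centralizer ({ψ} : Set X), τ.1.1 (φ.1 w) = φ.1 (τ.1.1 w) := fun τ => by
          have hc : Commute τ.1.1 ψ.1 := MulEquiv.ext fun x => hcomm τ x
          rw [← hi]
          exact DFunLike.congr_fun (hc.zpow_right i).eq w
        rw [hpow, hpow, h']
      · rw [Nat.card_eq_fintype_card, Fintype.card_subtype_compl, Fintype.card_subtype_eq,
          ← Nat.card_eq_fintype_card, hW]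
        norm_num
  · -- four fixed points
    have hM : Nat.card d.range = 4 := by rw [hk] at hidx; omega
    obtain ⟨x, hxM, hx1⟩ : ∃ x ∈ d.range, x ≠ 1 := (Subgroup.bot_or_exists_ne_one d.range).resolve_left fun e => by
      rw [e, Subgroup.card_bot] at hM
      omega
    have hψx : ψ.1 x ∈ d.range := by
      obtain ⟨w, rfl⟩ := hxM
      exact ⟨ψ.1 w, (map_div ψ.1 (ψ.1 w) w).symm⟩
    have hni : (⟨ψ.1 x, hψx⟩ : d.range) ∉ Subgroup.zpowers (⟨x, hxM⟩ : d.range) := fun hm => by
      obtain ⟨n, hn⟩ := Subgroup.mem_zpowers_iff.1 hm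
      have e : x ^ n = ψ.1 x := by simpa using congrArg Subtype.val hn
      rcases Int.even_or_odd' n with ⟨j, rfl | rfl⟩
      · rw [zpow_mul, zpow_two, ← sq, h2, one_zpow] at e
        exact hx1 ((map_eq_one_iff _ ψ.1.injective).1 e.symm)
      · rw [zpow_add_one, zpow_mul, zpow_two, ← sq, h2, one_zpow, one_mul] at e
        exact hx1 (hUM x hxM e.symm)
    have hgen := gen_two Nat.prime_two (show Nat.card d.range = 2 ^ 2 by rw [hM]; norm_num)
      (a := (⟨x, hxM⟩ : d.range)) (b := ⟨ψ.1 x, hψx⟩) (fun e => hx1 (congrArg Subtype.val e)) hni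
    let Y : Subgroup (MulAut W) := (Subgroup.centralizer ({ψ} : Set X)).map X.subtype
    have hY : Stable Y d.ker := by
      rintro _ ⟨c, hc, rfl⟩ u hu
      exact hstU ⟨c, hc⟩ u hu
    have hYM : ∀ c : Subgroup.centralizer ({ψ} : Set X), c.1.1 x ∈ d.range := fun c => by
      obtain ⟨w, rfl⟩ := hxM
      exact ⟨c.1.1 w, by
        show ψ.1 (c.1.1 w) / c.1.1 w = c.1.1 (ψ.1 w / w)
        rw [map_div, hcomm]⟩
    have hXY : Φ.Pres Y := by
      rintro _ ⟨c, -, rfl⟩
      exact hX c.1 c.2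
    have h6 := (Φ.restrict d.ker hnd).card_le_prime Nat.prime_two hk (Φ.pres_restrict hXY hY hnd)
    refine (Nat.card_le_card_of_injective (fun c : Subgroup.centralizer ({ψ} : Set X) =>
      ((resHom Y d.ker hY).rangeRestrict ⟨c.1.1, c.1, c.2, rfl⟩,
        (⟨⟨_, hYM c⟩, fun e => hx1 ((map_eq_one_iff _ c.1.1.injective).1 (congrArg Subtype.val e))⟩ :
          {z : d.range // z ≠ 1}))) fun c e h => ?_).trans ?_
    · simp only [Prod.mk.injEq] at h
      have h1 : ∀ u ∈ d.ker, c.1.1 u = e.1.1 u := fun u hu => congrArg (fun z => (z.1 ⟨u, hu⟩).1) h.1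
      have h2' : c.1.1 x = e.1.1 x := congrArg (fun z => z.1.1) h.2
      refine Subtype.ext (Subtype.ext (MulEquiv.ext fun v => ?_))
      obtain ⟨⟨u, m⟩, rfl⟩ := hbij.2 v
      rw [map_mul, map_mul, h1 u.1 u.2]
      congr 1
      exact DFunLike.congr_fun (MonoidHom.eq_of_eqOn_dense hgen (f := c.1.1.toMonoidHom.comp d.range.subtype)
        (g := e.1.1.toMonoidHom.comp d.range.subtype) (by
          rintro z (rfl | rfl)
          · exact h2'
          · show c.1.1 (ψ.1 x) = e.1.1 (ψ.1 x)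
            rw [hcomm, hcomm, h2'])) m
    · haveI := Fintype.ofFinite d.range
      rw [Nat.card_prod]
      refine (Nat.mul_le_mul h6 (le_of_eq ?_)).trans (le_of_eq (show (2 ^ 2 - 1) * 2 * 3 = 18 by norm_num))
      rw [Nat.card_eq_fintype_card, Fintype.card_subtype_compl, Fintype.card_subtype_eq,
        ← Nat.card_eq_fintype_card, hM]
  · exfalso
    refine hψ1 (Subtype.ext (MulEquiv.ext fun x => (hker x).1 ?_))
    rw [Subgroup.eq_top_of_card_eq d.ker (by rw [hk, hW]; norm_num)]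
    exact Subgroup.mem_top x

/-- Degree four, irreducible. -/
theorem subCls_four [Group.IsSolvable X] (hX : Φ.Pres X) (hW : Nat.card W = 16) (h2 : ∀ x : W, x ^ 2 = 1)
    (hirr : ∀ U : Subgroup W, Stable X U → U = ⊥ ∨ U = ⊤) : SubCls X 27 := by
  classical
  letI := addAct X
  have h72 : Nat.card X ≤ 72 := order_two 4 (Additive W) X (addAct_faithful X)
    (cr_of_irr (addAct_irr hirr)) (by rw [← Nat.card_congr Additive.ofMul, hW]; norm_num) le_rfl
  have hcent : ∀ φ : X, φ ≠ 1 → Nat.card (Subgroup.centralizer ({φ} : Set X)) ≤ 27 := by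
    intro φ hφ
    by_contra hbig
    set C := Subgroup.centralizer ({φ} : Set X) with hC
    have hi : C.index ≤ 2 := by
      by_contra h
      have := Nat.mul_le_mul (show 28 ≤ Nat.card C by omega) (show 3 ≤ C.index by omega)
      rw [Subgroup.card_mul_index] at this
      omega
    haveI hCn : C.Normal := by
      have := Subgroup.index_ne_zero_of_finite (H := C)
      rcases (show C.index = 1 ∨ C.index = 2 by omega) with h | h
      · rw [Subgroup.index_eq_one.1 h]; infer_instance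
      · exact Subgroup.normal_of_index_eq_two h
    let Zc := C ⊓ Subgroup.centralizer (C : Set X)
    have hZ : Zc ≠ ⊥ := fun e => hφ (Subgroup.mem_bot.1 (e ▸ ⟨Subgroup.mem_centralizer_singleton_iff.2 rfl,
      fun c hc => Subgroup.mem_centralizer_singleton_iff.1 hc⟩ : φ ∈ (⊥ : Subgroup X)))
    obtain ⟨N, hNle, hN⟩ := Core.exists_isMinNormal_le (G := X) hZ
    haveI := hN.normal
    haveI : IsMulCommutative N := hN.isMulCommutative
    obtain ⟨q, hq, hqN⟩ := hN.exists_prime_pow_eq_one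
    have hq2 : q ≠ 2 := by
      rintro rfl
      haveI : Fact (Nat.Prime 2) := ⟨Nat.prime_two⟩
      letI : MulAction N W := MulAction.compHom W (X.subtype.comp N.subtype)
      have hP : IsPGroup 2 N := fun x => ⟨1, Subtype.ext (by
        rw [pow_one, SubmonoidClass.coe_pow, OneMemClass.coe_one]; exact hqN x.1 x.2)⟩
      let F : Subgroup W :=
        { carrier := {x | ∀ n : N, n.1.1 x = x}
          one_mem' := fun n => map_one _
          mul_mem' := fun {x y} hx hy n => by rw [map_mul, hx n, hy n]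
          inv_mem' := fun {x} hx n => by rw [map_inv, hx n] }
      have hF : Stable X F := fun c hc x hx n => by
        have hm := hN.normal.conj_mem n.1 n.2 (⟨c, hc⟩⁻¹ : X)
        have e : (c⁻¹ * n.1.1 * c) x = x := by simpa using hx ⟨_, hm⟩
        rw [MulAut.mul_apply, MulAut.mul_apply, MulAut.inv_def, MulEquiv.symm_apply_eq] at e
        exact e
      have hFc : Nat.card F ≠ 1 := fun h1 => by
        have hmod := hP.card_modEq_card_fixedPoints W
        rw [hW, show Nat.card (MulAction.fixedPoints N W) = Nat.card F from Nat.card_congr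
          (Equiv.subtypeEquivRight fun x => Iff.rfl), h1] at hmod
        exact absurd hmod (by decide)
      rcases hirr F hF with h | h
      · exact hFc (by rw [h, Subgroup.card_bot])
      · exact hN.ne_bot ((Subgroup.eq_bot_iff_forall N).2 fun n hn => Subtype.ext (MulEquiv.ext fun x =>
          (h ▸ Subgroup.mem_top x : x ∈ F) ⟨n, hn⟩))
    obtain ⟨ψ, hψN, hψ1⟩ := (Subgroup.bot_or_exists_ne_one N).resolve_left hN.ne_bot
    have h18 := Φ.centralizer_odd hX hW h2 hq hq2 (by
      have := congrArg Subtype.val (hqN ψ hψN); simpa using this) hψ1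
    have hle : C ≤ Subgroup.centralizer ({ψ} : Set X) := fun c hc =>
      Subgroup.mem_centralizer_singleton_iff.2 ((hNle hψN).2 c hc)
    have := Subgroup.card_le_of_le hle
    omega
  intro S
  have hS : ∀ g : S, g ≠ 1 → Nat.card (Subgroup.centralizer ({g} : Set S)) ≤ 27 := fun g hg =>
    (Nat.card_le_card_of_injective (fun c : Subgroup.centralizer ({g} : Set S) =>
      (⟨c.1.1, Subgroup.mem_centralizer_singleton_iff.2
        (congrArg Subtype.val (Subgroup.mem_centralizer_singleton_iff.1 c.2))⟩ :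
        Subgroup.centralizer ({g.1} : Set X))) fun c d e => Subtype.ext (Subtype.ext (congrArg (fun z => z.1) e))).trans
      (hcent g.1 fun e => hg (Subtype.ext e))
  by_cases hz : Subgroup.center S = ⊥
  · exact cls_le_center_add (z := 1) (by rw [hz, Subgroup.card_bot]) (by norm_num) fun g hg =>
      hS g fun e => hg (e ▸ Subgroup.one_mem _)
  · obtain ⟨g, hg, hg1⟩ := (Subgroup.bot_or_exists_ne_one _).resolve_left hz
    have h1 := hS g hg1
    rw [show Subgroup.centralizer ({g} : Set S) = ⊤ from (Subgroup.eq_top_iff' _).2 fun h =>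
      Subgroup.mem_centralizer_singleton_iff.2 (Subgroup.mem_center_iff.1 hg h), Subgroup.card_top] at h1
    exact (cls_le_card S).trans h1

end Form

end Cfsg.Agent.SolvLinQuot
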