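import Cfsg.Agent.SolvLinQuot.Form

/-!
Prime degree, and order bounds from small bases.
-/

set_option autoImplicit false
set_option linter.style.haveILetI false
set_option linter.unusedSectionVars false

namespace Cfsg.Agent.SolvLinQuot

open ClassBoundSq

universe u v

/-- Two independent elements generate a group of order a square of a prime. -/
theorem gen_two {W : Type u} [CommGroup W] [Finite W] {e : ℕ} (he : e.Prime) (hW : Nat.card W = e ^ 2)
    {a b : W} (ha : a ≠ 1) (hb : b ∉ Subgroup.zpowers a) : Subgroup.closure ({a, b} : Set W) = ⊤ := by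
  set S := Subgroup.closure ({a, b} : Set W) with hS
  have hle : Subgroup.zpowers a ≤ S := Subgroup.zpowers_le.2 (Subgroup.subset_closure (by simp))
  have hlt : Nat.card (Subgroup.zpowers a) < Nat.card S := by
    by_contra h
    have := Subgroup.eq_of_le_of_card_ge hle (by omega)
    exact hb (this ▸ Subgroup.subset_closure (by simp : b ∈ ({a, b} : Set W)))
  obtain ⟨i, hi, hci⟩ := (Nat.dvd_prime_pow he).1 (hW ▸ (Subgroup.zpowers a).card_subgroup_dvd_card)
  obtain ⟨j, hj, hcj⟩ := (Nat.dvd_prime_pow he).1 (hW ▸ S.card_subgroup_dvd_card)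
  have hi0 : i ≠ 0 := fun e' => by
    rw [e', pow_zero, Nat.card_zpowers, orderOf_eq_one_iff] at hci
    exact ha hci
  rw [hci, hcj, Nat.pow_lt_pow_iff_right he.one_lt] at hlt
  exact Subgroup.eq_top_of_card_eq _ (by rw [hcj, hW, show j = 2 by omega])

theorem aut_ext_two {W : Type u} [CommGroup W] {a b : W} (hab : Subgroup.closure ({a, b} : Set W) = ⊤)
    {φ ψ : MulAut W} (ha : φ a = ψ a) (hb : φ b = ψ b) : φ = ψ :=
  MulEquiv.ext fun x => DFunLike.congr_fun (MonoidHom.eq_of_eqOn_dense hab (f := φ.toMonoidHom)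
    (g := ψ.toMonoidHom) (by rintro z (rfl | rfl); exacts [ha, hb])) x

namespace Form

variable {K : Type v} [Field K] {W : Type u} [CommGroup W] [Finite W] (Φ : Form K W)
  {X : Subgroup (MulAut W)}

theorem ker_two {a : W} (ha : a ≠ 1) : Nat.card (Φ.pair a).ker * 2 ≤ Nat.card W := by
  have hne : (Φ.pair a).ker.index ≠ 1 := fun h => ha (Φ.eq_one_of_pair fun v =>
    MonoidHom.mem_ker.1 ((Subgroup.index_eq_one.1 h).symm ▸ Subgroup.mem_top v))
  have h2 : 2 ≤ (Φ.pair a).ker.index := by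
    have := Subgroup.index_ne_zero_of_finite (H := (Φ.pair a).ker)
    omega
  calc _ ≤ Nat.card (Φ.pair a).ker * (Φ.pair a).ker.index := Nat.mul_le_mul_left _ h2
    _ = _ := Subgroup.card_mul_index _

theorem ker_prime {e : ℕ} (he : e.Prime) (hW : Nat.card W = e ^ 2) {a : W} (ha : a ≠ 1) :
    Nat.card (Φ.pair a).ker ≤ e := by
  obtain ⟨i, hi, hi'⟩ := (Nat.dvd_prime_pow he).1 (hW ▸ (Φ.pair a).ker.card_subgroup_dvd_card)
  rcases (show i ≤ 1 ∨ i = 2 by omega) with h1 | rfl
  · rw [hi']; exact (Nat.pow_le_pow_right he.one_lt.le h1).trans (pow_one e).le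
  · exfalso
    have := Φ.ker_two ha
    rw [hi', hW] at this
    have := Nat.pow_pos (n := 2) he.pos
    omega

theorem fibre_le (a : W) (t : Kˣ) : Nat.card {b : W // Φ.pair a b = t} ≤ Nat.card (Φ.pair a).ker := by
  rcases isEmpty_or_nonempty {b : W // Φ.pair a b = t} with h | ⟨⟨b0, h0⟩⟩
  · rw [Nat.card_of_isEmpty]; exact Nat.zero_le _
  refine Nat.card_le_card_of_injective (fun b => ⟨b0⁻¹ * b.1, by
    rw [MonoidHom.mem_ker, map_mul, map_inv, h0, b.2, inv_mul_cancel]⟩) fun x y e => Subtype.ext ?_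
  exact mul_left_cancel (congrArg Subtype.val e)

/-- A base of three elements bounds the order. -/
theorem card_le_base (hX : Φ.Pres X) (hW : 1 < Nat.card W)
    (hbase : ∃ a b c : W, ∀ φ ∈ X, φ a = a → φ b = b → φ c = c → φ = 1) :
    4 * Nat.card X ≤ Nat.card W ^ 3 := by
  classical
  haveI := Fintype.ofFinite W
  obtain ⟨a, b, c, h⟩ := hbase
  obtain ⟨a', ha', h'⟩ : ∃ a' : W, a' ≠ 1 ∧ ∀ φ ∈ X, φ a' = a' → φ b = b → φ c = c → φ = 1 := by
    by_cases ha : a = 1
    · haveI := Finite.one_lt_card_iff_nontrivial.1 hW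
      obtain ⟨u, hu⟩ := exists_ne (1 : W)
      exact ⟨u, hu, fun φ hφ _ h2 h3 => h φ hφ (by rw [ha, map_one]) h2 h3⟩
    · exact ⟨a, ha, h⟩
  let f : X → Σ x : {x : W // x ≠ 1},
      {y : W // Φ.pair x.1 y = Φ.pair a' b} × {y : W // Φ.pair x.1 y = Φ.pair a' c} := fun φ =>
    ⟨⟨φ.1 a', (map_ne_one_iff φ.1 φ.1.injective).2 ha'⟩, ⟨φ.1 b, hX φ.1 φ.2 a' b⟩, ⟨φ.1 c, hX φ.1 φ.2 a' c⟩⟩
  have hf : Function.Injective f := fun φ ψ e => by
    have h1 : φ.1 a' = ψ.1 a' := congrArg (fun z => (z.1 : W)) e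
    have h2 : φ.1 b = ψ.1 b := congrArg (fun z => (z.2.1 : W)) e
    have h3 : φ.1 c = ψ.1 c := congrArg (fun z => (z.2.2 : W)) e
    refine (inv_mul_eq_one.1 (Subtype.ext (h' _ (ψ⁻¹ * φ).2 ?_ ?_ ?_))).symm
    all_goals
      show ψ.1⁻¹ (φ.1 _) = _
      rw [MulAut.inv_def, MulEquiv.symm_apply_eq]
      assumption
  have := Nat.card_le_card_of_injective f hf
  rw [Nat.card_sigma] at this
  calc 4 * Nat.card X
      ≤ 4 * ∑ x : {x : W // x ≠ 1}, Nat.card ({y : W // Φ.pair x.1 y = Φ.pair a' b} × {y : W // Φ.pair x.1 y = Φ.pair a' c}) :=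
        Nat.mul_le_mul_left _ this
    _ = ∑ x : {x : W // x ≠ 1}, Nat.card {y : W // Φ.pair x.1 y = Φ.pair a' b} * 2 *
          (Nat.card {y : W // Φ.pair x.1 y = Φ.pair a' c} * 2) := by
        rw [Finset.mul_sum]; exact Finset.sum_congr rfl fun u _ => by rw [Nat.card_prod]; ring
    _ ≤ ∑ _x : {x : W // x ≠ 1}, Nat.card W * Nat.card W := Finset.sum_le_sum fun x _ =>
        Nat.mul_le_mul ((Nat.mul_le_mul_right 2 (Φ.fibre_le _ _)).trans (Φ.ker_two x.2))
          ((Nat.mul_le_mul_right 2 (Φ.fibre_le _ _)).trans (Φ.ker_two x.2))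
    _ ≤ Nat.card W * (Nat.card W * Nat.card W) := by
        rw [Finset.sum_const, smul_eq_mul]
        refine Nat.mul_le_mul_right _ ?_
        rw [Nat.card_eq_fintype_card]
        exact (Finset.card_univ (α := {x : W // x ≠ 1})) ▸ Fintype.card_subtype_le _
    _ = _ := by ring

include Φ in
theorem exists_gen {e : ℕ} (he : e.Prime) (hW : Nat.card W = e ^ 2) :
    ∃ a b : W, a ≠ 1 ∧ b ∉ Subgroup.zpowers a := by
  haveI : Nontrivial W := Finite.one_lt_card_iff_nontrivial.1 (hW ▸ Nat.one_lt_pow two_ne_zero he.one_lt)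
  obtain ⟨a, ha⟩ := exists_ne (1 : W)
  refine ⟨a, ?_⟩
  by_contra h
  push Not at h
  have hall : ∀ b, b ∈ Subgroup.zpowers a := fun b => h b ha
  refine ha (Φ.eq_one_of_pair fun v => ?_)
  obtain ⟨j, rfl⟩ := Subgroup.mem_zpowers_iff.1 (hall v)
  rw [map_zpow, Φ.self, one_zpow]

/-- Prime degree: the order. -/
theorem card_le_prime {e : ℕ} (he : e.Prime) (hW : Nat.card W = e ^ 2) (hX : Φ.Pres X) :
    Nat.card X ≤ (e ^ 2 - 1) * e := by
  classical
  haveI := Fintype.ofFinite W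
  obtain ⟨a, b, ha, hb⟩ := Φ.exists_gen he hW
  let f : X → Σ x : {x : W // x ≠ 1}, {y : W // Φ.pair x.1 y = Φ.pair a b} := fun φ =>
    ⟨⟨φ.1 a, (map_ne_one_iff φ.1 φ.1.injective).2 ha⟩, φ.1 b, hX φ.1 φ.2 a b⟩
  have hf : Function.Injective f := fun φ ψ h => Subtype.ext <| aut_ext_two (gen_two he hW ha hb)
    (congrArg (fun z => (z.1 : W)) h) (congrArg (fun z => (z.2.1 : W)) h)
  refine (Nat.card_le_card_of_injective f hf).trans ?_
  rw [Nat.card_sigma]
  refine (Finset.sum_le_card_nsmul _ _ e fun x _ => (Φ.fibre_le x.1 _).trans (Φ.ker_prime he hW x.2)).trans ?_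
  rw [Finset.card_univ, Fintype.card_subtype_compl, Fintype.card_subtype_eq, ← Nat.card_eq_fintype_card, hW,
    smul_eq_mul]

include Φ in
theorem exponent_prime {e : ℕ} (he : e.Prime) (hW : Nat.card W = e ^ 2) (u : W) : u ^ e = 1 := by
  by_contra hu
  obtain ⟨i, hi, ho⟩ := (Nat.dvd_prime_pow he).1 (hW ▸ orderOf_dvd_natCard u)
  have hi2 : i = 2 := by
    by_contra h
    exact hu (orderOf_dvd_iff_pow_eq_one.1 (ho ▸ (pow_dvd_pow e (show i ≤ 1 by omega)).trans (pow_one e).dvd))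
  have htop : Subgroup.zpowers u = ⊤ := Subgroup.eq_top_of_card_eq _ (by
    rw [Nat.card_zpowers, ho, hW, hi2])
  refine hu ?_
  rw [Φ.eq_one_of_pair (u := u) fun v => ?_, one_pow]
  obtain ⟨j, rfl⟩ := Subgroup.mem_zpowers_iff.1 (htop ▸ Subgroup.mem_top v : v ∈ Subgroup.zpowers u)
  rw [map_zpow, Φ.self, one_zpow]

/-- An element without eigenvectors outside is scalar. -/
theorem scalar_cases {e : ℕ} (he : e.Prime) (hW : Nat.card W = e ^ 2) (hX : Φ.Pres X) {φ : MulAut W}
    (hφ : φ ∈ X) (hsc : ∀ u, φ u ∈ Subgroup.zpowers u) : φ = 1 ∨ ∀ u, φ u = u⁻¹ := by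
  obtain ⟨a, b, ha, hb⟩ := Φ.exists_gen he hW
  have hexp := Φ.exponent_prime he hW
  have hgen := gen_two he hW ha hb
  have hab : Φ.pair a b ≠ 1 := fun h => ha (Φ.eq_one_of_pair fun v => by
    have h2 : Subgroup.closure ({a, b} : Set W) ≤ (Φ.pair a).ker := (Subgroup.closure_le _).2 (by
      rintro z (rfl | rfl)
      exacts [Φ.self _, h])
    exact h2 (hgen ▸ Subgroup.mem_top v))
  obtain ⟨k, hk⟩ := Subgroup.mem_zpowers_iff.1 (hsc a)
  obtain ⟨l, hl⟩ := Subgroup.mem_zpowers_iff.1 (hsc b)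
  obtain ⟨m, hm⟩ := Subgroup.mem_zpowers_iff.1 (hsc (a * b))
  rw [map_mul, ← hk, ← hl, mul_zpow] at hm
  have hze : ∀ (x : W) (n : ℤ), (e : ℤ) ∣ n → x ^ n = 1 := fun x n ⟨t, ht⟩ => by
    rw [ht, zpow_mul, zpow_natCast, hexp, one_zpow]
  have hlm : b ^ (m - l) = a ^ (k - m) := by
    rw [zpow_sub, zpow_sub]
    calc b ^ m * (b ^ l)⁻¹ = (a ^ m)⁻¹ * (a ^ m * b ^ m) * (b ^ l)⁻¹ := by group
      _ = (a ^ m)⁻¹ * (a ^ k * b ^ l) * (b ^ l)⁻¹ := by rw [hm]
      _ = a ^ k * (a ^ m)⁻¹ := by rw [mul_assoc, mul_inv_cancel_right, mul_comm]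
  have hmem : ∀ x : W, ∀ n : ℤ, ¬ (e : ℤ) ∣ n → x ∈ Subgroup.zpowers (x ^ n) := fun x n hn => by
    obtain ⟨r, s, hrs⟩ : IsCoprime (e : ℤ) n := (Nat.prime_iff_prime_int.1 he).irreducible.coprime_iff_not_dvd.2 hn
    refine ⟨s, ?_⟩
    show (x ^ n) ^ s = x
    calc (x ^ n) ^ s = x ^ (n * s) := (zpow_mul _ _ _).symm
      _ = x ^ (r * e + s * n) := by rw [zpow_add, hze x (r * e) (dvd_mul_left _ _), one_mul, mul_comm s n]
      _ = x := by rw [hrs, zpow_one]
  have hdl : (e : ℤ) ∣ m - l := by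
    by_contra hn
    refine hb ?_
    obtain ⟨s, hs⟩ := hmem b _ hn
    simp only at hs
    rw [← hs, hlm, ← zpow_mul]
    exact ⟨_, rfl⟩
  have hdk : (e : ℤ) ∣ k - m := by
    by_contra hn
    refine ha ?_
    obtain ⟨s, hs⟩ := hmem a _ hn
    simp only at hs
    rw [← hs, ← hlm, hze b _ hdl, one_zpow]
  have hφb : φ b = b ^ k := by
    rw [← hl, ← mul_inv_eq_one, ← zpow_sub]
    exact hze b _ (by have := dvd_add hdk hdl; rw [dvd_sub_comm]; simpa using this)
  have hkk : (e : ℤ) ∣ (k - 1) * (k + 1) := by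
    have h1 := hX φ hφ a b
    rw [← hk, hφb, map_zpow, map_zpow, MonoidHom.zpow_apply, ← zpow_mul] at h1
    have h2 : Φ.pair a b ^ ((k - 1) * (k + 1)) = 1 := by
      rw [show (k - 1) * (k + 1) = k * k - 1 by ring, zpow_sub, h1, zpow_one, mul_inv_cancel]
    have ho : orderOf (Φ.pair a b) = e := by
      haveI := Fact.mk he
      refine orderOf_eq_prime ?_ hab
      rw [← map_pow, hexp, map_one]
    rw [← ho]
    exact orderOf_dvd_iff_zpow_eq_one.2 h2
  rcases (Nat.prime_iff_prime_int.1 he).dvd_or_dvd hkk with h | h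
  · refine Or.inl (aut_ext_two hgen ?_ ?_)
    · rw [← hk, MulAut.one_apply, ← mul_inv_eq_one]
      simpa [zpow_sub] using hze a _ h
    · rw [hφb, MulAut.one_apply, ← mul_inv_eq_one]
      simpa [zpow_sub] using hze b _ h
  · refine Or.inr fun u => ?_
    have key : φ.toMonoidHom = (MulEquiv.inv W).toMonoidHom := MonoidHom.eq_of_eqOn_dense hgen (by
      rintro z (rfl | rfl)
      · show φ z = z⁻¹
        rw [← hk, eq_inv_iff_mul_eq_one, ← zpow_add_one]
        exact hze z _ h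
      · show φ z = z⁻¹
        rw [hφb, eq_inv_iff_mul_eq_one, ← zpow_add_one]
        exact hze z _ h)
    exact DFunLike.congr_fun key u

/-- Prime degree: the classes. -/
theorem subCls_prime {e : ℕ} (he : e.Prime) (hW : Nat.card W = e ^ 2) (hX : Φ.Pres X) :
    SubCls X (3 ^ (e - 1)) := fun S => by
  classical
  have hcent : ∀ g : S, (¬ ∀ u, g.1.1 u ∈ Subgroup.zpowers u) →
      Nat.card (Subgroup.centralizer ({g} : Set S)) ≤ e ^ 2 - 1 := by
    intro g hg
    push Not at hg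
    obtain ⟨u, hu⟩ := hg
    have hu1 : u ≠ 1 := fun h => hu (by rw [h, map_one]; exact Subgroup.one_mem _)
    refine (Nat.card_le_card_of_injective (fun ψ : Subgroup.centralizer ({g} : Set S) =>
      (⟨ψ.1.1.1 u, (map_ne_one_iff _ ψ.1.1.1.injective).2 hu1⟩ : {x : W // x ≠ 1})) fun ψ χ h => ?_).trans ?_
    · have h' : ψ.1.1.1 u = χ.1.1.1 u := congrArg Subtype.val h
      refine Subtype.ext (Subtype.ext (Subtype.ext (aut_ext_two (gen_two he hW hu1 hu) h' ?_)))
      have hc : ∀ τ : Subgroup.centralizer ({g} : Set S), τ.1.1.1 (g.1.1 u) = g.1.1 (τ.1.1.1 u) := fun τ =>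
        congrArg (fun z : S => z.1.1 u) (Subgroup.mem_centralizer_singleton_iff.1 τ.2)
      rw [hc, hc, h']
    · haveI := Fintype.ofFinite W
      rw [Nat.card_eq_fintype_card, Fintype.card_subtype_compl, Fintype.card_subtype_eq,
        ← Nat.card_eq_fintype_card, hW]
  have hpow : e ≠ 2 → e ^ 2 ≤ 3 ^ (e - 1) := fun h => by
    have h3 : 3 ≤ e := by have := he.two_le; omega
    clear hcent h hW he
    induction e, h3 using Nat.le_induction with
    | base => norm_num
    | succ n hn ih =>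
      rw [show n + 1 - 1 = (n - 1) + 1 by omega, pow_succ 3]
      nlinarith
  have he4 : 4 ≤ e ^ 2 := by have := Nat.pow_le_pow_left he.two_le 2; omega
  by_cases hz : ∀ g ∈ Subgroup.center S, ∀ u, g.1.1 u ∈ Subgroup.zpowers u
  · have hzc : Nat.card (Subgroup.center S) ≤ if e = 2 then 1 else 2 := by
      by_cases h2 : e = 2
      · rw [if_pos h2]
        haveI : Subsingleton (Subgroup.center S) := ⟨fun x y => by
          have h1 : ∀ z : Subgroup.center S, z.1.1.1 = 1 := fun z =>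
            (Φ.scalar_cases he hW hX z.1.1.2 (hz z.1 z.2)).elim id fun h => MulEquiv.ext fun u => by
              rw [h, MulAut.one_apply, inv_eq_iff_mul_eq_one, ← sq]
              exact h2 ▸ Φ.exponent_prime he hW u
          exact Subtype.ext (Subtype.ext (Subtype.ext ((h1 x).trans (h1 y).symm)))⟩
        exact (Nat.card_of_subsingleton (1 : Subgroup.center S)).le
      · rw [if_neg h2]
        refine (Nat.card_le_card_of_injective (fun z : Subgroup.center S => decide (z.1.1.1 = 1))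
          fun x y h => ?_).trans (by simp)
        simp only [decide_eq_decide] at h
        refine Subtype.ext (Subtype.ext (Subtype.ext ?_))
        by_cases hx : x.1.1.1 = 1
        · rw [hx, h.1 hx]
        · have hy : y.1.1.1 ≠ 1 := fun hy => hx (h.2 hy)
          exact MulEquiv.ext fun u => ((Φ.scalar_cases he hW hX x.1.1.2 (hz x.1 x.2)).resolve_left hx u).trans
            ((Φ.scalar_cases he hW hX y.1.1.2 (hz y.1 y.2)).resolve_left hy u).symm
    have hcls := cls_le_center_add hzc (show 0 < e ^ 2 - 1 by omega) fun g hg => hcent g fun hsc =>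
      hg (Subgroup.mem_center_iff.2 fun h => Subtype.ext (Subtype.ext (MulEquiv.ext fun u => by
        show h.1.1 (g.1.1 u) = g.1.1 (h.1.1 u)
        rcases Φ.scalar_cases he hW hX g.1.2 hsc with e1 | e1
        · rw [e1]; rfl
        · rw [e1, e1, map_inv])))
    by_cases h2 : e = 2
    · subst h2
      simp only [if_true] at hcls
      norm_num at hcls ⊢
      exact hcls
    · rw [if_neg h2] at hcls
      have := hpow h2
      omega
  · push Not at hz
    obtain ⟨g, hg, u, hu⟩ := hz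
    have h1 := hcent g fun h => hu (h u)
    rw [show Subgroup.centralizer ({g} : Set S) = ⊤ from (Subgroup.eq_top_iff' _).2 fun h =>
      Subgroup.mem_centralizer_singleton_iff.2 (Subgroup.mem_center_iff.1 hg h), Subgroup.card_top] at h1
    refine (cls_le_card S).trans (h1.trans ?_)
    by_cases h2 : e = 2
    · subst h2; norm_num
    · exact le_trans (Nat.sub_le _ _) (hpow h2)

end Form

end Cfsg.Agent.SolvLinQuot
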