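import Cfsg.Agent.ClassBoundSq.Count
import Cfsg.Agent.Core.Fitting
import Cfsg.Agent.S4201

/-!
Class numbers of all subgroups at once.
-/

set_option autoImplicit false
set_option linter.style.haveILetI false

namespace Cfsg.Agent.SolvLinQuot

open ClassBoundSq

/-- Every subgroup has at most `b` classes. -/
def SubCls (Q : Type*) [Group Q] (b : ℕ) : Prop := ∀ S : Subgroup Q, cls S ≤ b

variable {Q : Type*} [Group Q] [Finite Q] {R : Type*} [Group R] [Finite R]

omit [Finite R] in
theorem cls_le_of_surjective (f : Q →* R) (hf : Function.Surjective f) : cls R ≤ cls Q :=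
  Nat.card_le_card_of_surjective (ConjClasses.map f) (ConjClasses.map_surjective hf)

omit [Finite R] in
theorem SubCls.mono {a b : ℕ} (h : SubCls R a) (hab : a ≤ b) : SubCls R b := fun S => (h S).trans hab

theorem SubCls.of_card {b : ℕ} (h : Nat.card Q ≤ b) : SubCls Q b := fun S =>
  (cls_le_card S).trans ((Subgroup.card_le_card_group S).trans h)

theorem SubCls.of_injective {b : ℕ} (h : SubCls R b) (f : Q →* R) (hf : Function.Injective f) :
    SubCls Q b := fun S => by
  rw [cls_congr (S.equivMapOfInjective f hf)]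
  exact h _

theorem SubCls.of_surjective {b : ℕ} (h : SubCls Q b) (f : Q →* R) (hf : Function.Surjective f) :
    SubCls R b := fun S =>
  (cls_le_of_surjective (f.subgroupComap S) (f.subgroupComap_surjective_of_surjective S hf)).trans (h _)

theorem SubCls.ext {a b : ℕ} (f : Q →* R) (ha : SubCls f.ker a) (hb : SubCls R b) :
    SubCls Q (a * b) := fun S => by
  let g : S →* R := f.comp S.subtype
  refine (S4201.result g.ker).trans (Nat.mul_le_mul ?_ ?_)
  · let i : g.ker →* f.ker :=
      { toFun := fun x => ⟨x.1.1, x.2⟩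
        map_one' := rfl
        map_mul' := fun _ _ => rfl }
    have hi : Function.Injective i := fun x y h => by
      have := congrArg Subtype.val h
      exact Subtype.ext (Subtype.ext this)
    exact (cls_congr (MonoidHom.ofInjective hi)).trans_le (ha i.range)
  · exact (cls_congr (QuotientGroup.quotientKerEquivRange g)).trans_le (hb g.range)

theorem SubCls.ext_normal {a b : ℕ} (N : Subgroup Q) [N.Normal] (ha : SubCls N a)
    (hb : SubCls (Q ⧸ N) b) : SubCls Q (a * b) :=
  SubCls.ext (QuotientGroup.mk' N) (ha.of_injective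
    ((MulEquiv.subgroupCongr (QuotientGroup.ker_mk' N)).toMonoidHom)
    (MulEquiv.subgroupCongr (QuotientGroup.ker_mk' N)).injective) hb

theorem SubCls.prod {a b : ℕ} (ha : SubCls Q a) (hb : SubCls R b) : SubCls (Q × R) (a * b) := by
  rw [mul_comm]
  refine SubCls.ext (MonoidHom.fst Q R) (hb.of_injective
    ((MonoidHom.snd Q R).comp (MonoidHom.fst Q R).ker.subtype) fun x y h => ?_) ha
  exact Subtype.ext (Prod.ext ((show x.1.1 = 1 from x.2).trans (show y.1.1 = 1 from y.2).symm) h)

theorem SubCls.pi_aux {ι : Type*} {A : ι → Type*} [∀ i, Group (A i)] [∀ i, Finite (A i)] {b : ι → ℕ}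
    (h : ∀ i, SubCls (A i) (b i)) (s : Finset ι) :
    ∀ (Q : Type*) [Group Q] [Finite Q] (f : ∀ i, Q →* A i),
      (∀ x, (∀ i ∈ s, f i x = 1) → x = 1) → SubCls Q (∏ i ∈ s, b i) := by
  classical
  induction s using Finset.induction_on with
  | empty =>
    intro Q _ _ f hf
    haveI : Subsingleton Q := ⟨fun x y => (hf x (by simp)).trans (hf y (by simp)).symm⟩
    refine SubCls.of_card ?_
    rw [Finset.prod_empty]
    exact (Nat.card_of_subsingleton (1 : Q)).le
  | insert a s has ih =>
    intro Q _ _ f hf
    rw [Finset.prod_insert has, mul_comm]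
    refine SubCls.ext (f a) (ih (f a).ker (fun i => (f i).comp (f a).ker.subtype) fun x hx => ?_) (h a)
    refine Subtype.ext (hf x.1 fun i hi => ?_)
    rcases Finset.mem_insert.1 hi with rfl | hi
    · exact x.2
    · exact hx i hi

theorem SubCls.of_jointly_injective {ι : Type*} [Fintype ι] {A : ι → Type*} [∀ i, Group (A i)]
    [∀ i, Finite (A i)] {b : ι → ℕ} (h : ∀ i, SubCls (A i) (b i)) (f : ∀ i, Q →* A i)
    (hf : ∀ x, (∀ i, f i x = 1) → x = 1) : SubCls Q (∏ i, b i) :=
  SubCls.pi_aux h Finset.univ Q f fun x hx => hf x fun i => hx i (Finset.mem_univ i)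

/-- Quotients by Fitting subgroups along a jointly injective family. -/
theorem SubCls.fitting_pi {ι : Type*} [Fintype ι] {A : ι → Type*} [∀ i, Group (A i)]
    [∀ i, Finite (A i)] {b : ι → ℕ} (h : ∀ i, SubCls (A i ⧸ Cfsg.fittingSubgroup (A i)) (b i))
    (f : ∀ i, Q →* A i) (hf : ∀ x, (∀ i, f i x = 1) → x = 1) :
    SubCls (Q ⧸ Cfsg.fittingSubgroup Q) (∏ i, b i) := by
  let g : ∀ i, Q →* A i ⧸ Cfsg.fittingSubgroup (A i) := fun i => (QuotientGroup.mk' _).comp (f i)
  let N : Subgroup Q := ⨅ i, (g i).ker
  haveI : N.Normal := Subgroup.normal_iInf_normal fun i => inferInstance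
  have hmem : ∀ x ∈ N, ∀ i, f i x ∈ Cfsg.fittingSubgroup (A i) := fun x hx i =>
    (QuotientGroup.eq_one_iff (f i x)).1 (Subgroup.mem_iInf.1 hx i)
  have hnil : Group.IsNilpotent N := by
    let e : N →* ∀ i, Cfsg.fittingSubgroup (A i) :=
      { toFun := fun x i => ⟨f i x.1, hmem x.1 x.2 i⟩
        map_one' := funext fun i => Subtype.ext (map_one (f i))
        map_mul' := fun x y => funext fun i => Subtype.ext (map_mul (f i) x.1 y.1) }
    have he : Function.Injective e := (injective_iff_map_eq_one e).2 fun x hx =>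
      Subtype.ext (hf x.1 fun i => congrArg Subtype.val (congrFun hx i))
    haveI : Finite ι := inferInstance
    haveI : ∀ i, Group.IsNilpotent (Cfsg.fittingSubgroup (A i)) := fun i => Core.fittingSubgroup_isNilpotent
    exact (Group.isNilpotent_congr (MonoidHom.ofInjective he)).2 inferInstance
  have hle : N ≤ Cfsg.fittingSubgroup Q := Core.le_fittingSubgroup hnil
  have h1 : SubCls (Q ⧸ N) (∏ i, b i) := by
    refine SubCls.of_jointly_injective h (fun i => QuotientGroup.lift N (g i) (iInf_le _ i)) fun x hx => ?_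
    induction x using QuotientGroup.induction_on with | _ q =>
    exact (QuotientGroup.eq_one_iff q).2 (Subgroup.mem_iInf.2 fun i => hx i)
  refine h1.of_surjective (QuotientGroup.map N _ (MonoidHom.id Q) hle) ?_
  intro x
  induction x using QuotientGroup.induction_on with | _ q =>
  exact ⟨(q : Q ⧸ N), rfl⟩

/-- Centralisers bound the class number. -/
theorem cls_le_center_add {S : Type*} [Group S] [Finite S] {z m : ℕ}
    (hz : Nat.card (Subgroup.center S) ≤ z) (hm0 : 0 < m)
    (hm : ∀ g : S, g ∉ Subgroup.center S → Nat.card (Subgroup.centralizer ({g} : Set S)) ≤ m) :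
    cls S ≤ z + m - 1 := by
  classical
  haveI := Fintype.ofFinite S
  have hpairs : Nat.card {p : S × S // Commute p.1 p.2} =
      ∑ g : S, Nat.card (Subgroup.centralizer ({g} : Set S)) := by
    rw [← Nat.card_sigma]
    exact Nat.card_congr
      { toFun := fun p => ⟨p.1.1, p.1.2, Subgroup.mem_centralizer_singleton_iff.2 p.2.symm⟩
        invFun := fun s => ⟨(s.1, s.2.1), (Subgroup.mem_centralizer_singleton_iff.1 s.2.2).symm⟩
        left_inv := fun p => rfl
        right_inv := fun s => rfl }
  have hsplit := Finset.sum_filter_add_sum_filter_not Finset.univ (fun g : S => g ∈ Subgroup.center S)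
    (fun g => Nat.card (Subgroup.centralizer ({g} : Set S)))
  have hc1 : (Finset.univ.filter fun g : S => g ∈ Subgroup.center S).card = Nat.card (Subgroup.center S) := by
    rw [← Fintype.card_subtype, ← Nat.card_eq_fintype_card]
  have hc2 := Finset.card_filter_add_card_filter_not (s := Finset.univ) (fun g : S => g ∈ Subgroup.center S)
  have h1 := Finset.sum_le_card_nsmul (Finset.univ.filter fun g : S => g ∈ Subgroup.center S)
    (fun g => Nat.card (Subgroup.centralizer ({g} : Set S))) (Nat.card S)
    fun g _ => Subgroup.card_le_card_group _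
  have h2 := Finset.sum_le_card_nsmul (Finset.univ.filter fun g : S => ¬g ∈ Subgroup.center S)
    (fun g => Nat.card (Subgroup.centralizer ({g} : Set S))) m fun g hg => hm g (Finset.mem_filter.1 hg).2
  rw [card_comm_eq_card_conjClasses_mul_card, ← hsplit] at hpairs
  rw [smul_eq_mul, hc1] at h1
  rw [Finset.card_univ, ← Nat.card_eq_fintype_card, hc1] at hc2
  rw [smul_eq_mul] at h2
  have hlt : cls S * Nat.card S < (z + m) * Nat.card S := by
    have h3 : Nat.card (Subgroup.center S) * Nat.card S ≤ z * Nat.card S := Nat.mul_le_mul_right _ hz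
    have h4 : (Finset.univ.filter fun g : S => ¬g ∈ Subgroup.center S).card * m < Nat.card S * m :=
      Nat.mul_lt_mul_of_pos_right (by have : 0 < Nat.card (Subgroup.center S) := Nat.card_pos; omega) hm0
    unfold cls
    rw [add_mul, mul_comm m]
    omega
  have := Nat.lt_of_mul_lt_mul_right hlt
  omega

end Cfsg.Agent.SolvLinQuot
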