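import Cfsg.Agent.SolvLinQuot.Four

/-!
Classes of solvable groups of automorphisms of a pairing without invariant isotropic subgroups.
-/

set_option autoImplicit false
set_option maxHeartbeats 1000000
set_option linter.style.haveILetI false
set_option linter.unusedSectionVars false

namespace Cfsg.Agent.SolvLinQuot

open ClassBoundSq

universe u v

theorem pow_six_le : ∀ e : ℕ, 16 ≤ e → e ^ 6 ≤ 4 * 3 ^ (e - 1) := by
  intro e he
  induction e, he using Nat.le_induction with
  | base => norm_num
  | succ e he ih =>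
    have h1 : (e + 1) ^ 6 * 16 ^ 6 ≤ e ^ 6 * 17 ^ 6 := by
      rw [← mul_pow, ← mul_pow]; exact Nat.pow_le_pow_left (by omega) 6
    rw [show e + 1 - 1 = (e - 1) + 1 by omega, pow_succ 3]
    generalize (e + 1) ^ 6 = A, e ^ 6 = B, 3 ^ (e - 1) = C at *
    norm_num at h1
    omega

/-- The bound. -/
theorem subCls_symp (K : Type v) [Field K] : ∀ (e : ℕ) (W : Type u) [CommGroup W] [Finite W]
    (Φ : Form K W) (X : Subgroup (MulAut W)), Group.IsSolvable X → Φ.Pres X → Φ.Nd X →
    Nat.card W = e ^ 2 → SubCls X (3 ^ (e - 1)) := by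
  intro e
  induction e using Nat.strong_induction_on with
  | _ e ih =>
  intro W _ _ Φ X hsolv hX hn hW
  classical
  haveI := hsolv
  have he0 : 0 < e := Nat.pos_of_ne_zero fun h => by
    rw [h] at hW
    have : 0 < Nat.card W := Nat.card_pos
    norm_num at hW
    omega
  by_cases he1 : e = 1
  · subst he1
    haveI : Subsingleton W := (Nat.card_eq_one_iff_unique.1 (hW.trans (one_pow 2))).1
    haveI : Subsingleton X := ⟨fun x y => Subtype.ext (MulEquiv.ext fun u => Subsingleton.elim _ _)⟩
    exact SubCls.of_card (Nat.card_of_subsingleton (1 : X)).le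
  by_cases hirr : ∀ U : Subgroup W, Form.Stable X U → U = ⊥ ∨ U = ⊤
  swap
  · push Not at hirr
    obtain ⟨U, hU, hU0, hU1⟩ := hirr
    have hd := Φ.inf_perp hX hn hU
    have hV := Φ.stable_perp hX hU
    have hd' := Φ.inf_perp hX hn hV
    obtain ⟨a, ha0, ha⟩ := (Φ.restrict U hd).exists_sq
    obtain ⟨b, hb0, hb⟩ := (Φ.restrict (Φ.perp U) hd').exists_sq
    have hab : a * b = e := by
      have h := (Φ.sup_perp hX hn hU).2
      rw [ha, hb, hW, ← mul_pow] at h
      exact Nat.pow_left_injective two_ne_zero h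
    have ha1 : a ≠ 1 := fun h => hU0 (Subgroup.eq_bot_of_card_eq U (by rw [ha, h, one_pow]))
    have hb1 : b ≠ 1 := fun h => hU1 (Subgroup.eq_top_of_card_eq U (by
      rw [hW, ha, ← hab, h, mul_one]))
    have hae : a < e := hab ▸ lt_mul_right ha0 (by omega)
    have hbe : b < e := hab ▸ lt_mul_left hb0 (by omega)
    haveI : Group.IsSolvable (resHom X U hU).range :=
      Group.isSolvable_of_surjective (resHom X U hU).rangeRestrict_surjective
    haveI : Group.IsSolvable (resHom X (Φ.perp U) hV).range :=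
      Group.isSolvable_of_surjective (resHom X (Φ.perp U) hV).rangeRestrict_surjective
    refine (Φ.subCls_split hX hn hU
      (ih a hae U (Φ.restrict U hd) _ inferInstance (Φ.pres_restrict hX hU hd) (Φ.nd_restrict hn hU hd) ha)
      (ih b hbe (Φ.perp U) (Φ.restrict _ hd') _ inferInstance (Φ.pres_restrict hX hV hd')
        (Φ.nd_restrict hn hV hd') hb)).mono ?_
    rw [← pow_add]
    refine Nat.pow_le_pow_right (by norm_num) ?_
    have : a + b ≤ a * b + 1 := by nlinarith [Nat.mul_le_mul (show 2 ≤ a by omega) (show 2 ≤ b by omega)]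
    omega
  -- irreducible: elementary abelian
  have hW1 : 1 < Nat.card W := hW ▸ Nat.one_lt_pow two_ne_zero (by omega)
  obtain ⟨p, hp, hpd⟩ := Nat.exists_prime_and_dvd hW1.ne'
  haveI := Fact.mk hp
  have hexp : ∀ x : W, x ^ p = 1 := by
    rcases hirr (powMonoidHom p : W →* W).ker (fun φ _ x hx => by
      rw [MonoidHom.mem_ker, powMonoidHom_apply] at hx ⊢
      rw [← map_pow, hx, map_one]) with h | h
    · obtain ⟨x, hx⟩ := exists_prime_orderOf_dvd_card' (G := W) p hpd
      have : x ∈ (powMonoidHom p : W →* W).ker := by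
        rw [MonoidHom.mem_ker, powMonoidHom_apply, ← hx, pow_orderOf_eq_one]
      rw [h, Subgroup.mem_bot] at this
      rw [this, orderOf_one] at hx
      exact absurd hx hp.one_lt.ne
    · exact fun x => (h ▸ Subgroup.mem_top x : x ∈ (powMonoidHom p : W →* W).ker)
  obtain ⟨n, hn'⟩ := IsPGroup.iff_card.1 (show IsPGroup p W from fun x => ⟨1, by rw [pow_one]; exact hexp x⟩)
  obtain ⟨m, -, hm⟩ := (Nat.dvd_prime_pow hp).1 (show e ∣ p ^ n from hn' ▸ hW ▸ dvd_pow_self e two_ne_zero)
  rcases (show m = 0 ∨ m = 1 ∨ 2 ≤ m by omega) with rfl | rfl | hm2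
  · exact absurd (hm.trans (pow_zero p)) he1
  · exact Φ.subCls_prime (by rw [hm, pow_one]; exact hp) hW hX
  letI := addAct X
  have hcr := cr_of_irr (addAct_irr hirr)
  by_cases h16 : 16 ≤ e
  · obtain ⟨x, y, z, hxyz⟩ := BaseThree.exists_three (Additive W) X hcr
    have h := Φ.card_le_base hX hW1 ⟨x.toMul, y.toMul, z.toMul, fun φ hφ h1 h2 h3 =>
      congrArg Subtype.val (addAct_faithful X ⟨φ, hφ⟩ (hxyz ⟨φ, hφ⟩ (congrArg Additive.ofMul h1)
        (congrArg Additive.ofMul h2) (congrArg Additive.ofMul h3)))⟩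
    rw [hW, ← pow_mul, show 2 * 3 = 6 from rfl] at h
    have := pow_six_le e h16
    exact SubCls.of_card (by omega)
  have hp3 : p ≤ 3 := by
    by_contra h
    have := Nat.pow_le_pow_left (show 4 ≤ p by omega) 2
    have := Nat.pow_le_pow_right hp.pos hm2
    omega
  have hm3 : m ≤ 3 := by
    by_contra h
    have := Nat.pow_le_pow_left hp.two_le 4
    have := Nat.pow_le_pow_right hp.pos (show 4 ≤ m by omega)
    omega
  have hp2 := hp.two_le
  have hWp : Nat.card (Additive W) = p ^ (2 * m) := by
    rw [← Nat.card_congr Additive.ofMul, hW, hm, ← pow_mul, mul_comm m]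
  interval_cases p <;> interval_cases m
  · subst hm
    exact (Φ.subCls_four hX (hW.trans (by norm_num)) hexp hirr).mono (by norm_num)
  · subst hm
    exact SubCls.of_card ((order_two_six 6 (Additive W) X (addAct_faithful X) hcr hWp le_rfl).trans
      (by norm_num [tabTwo]))
  · subst hm
    exact SubCls.of_card ((order_three_four 4 (Additive W) X (addAct_faithful X) hcr hWp le_rfl).trans
      (by norm_num [tabThree]))
  · exact absurd (hm ▸ le_refl e) (by omega)

end Cfsg.Agent.SolvLinQuot
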