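import Cfsg.Agent.SolvLinQuot.Prime
import Cfsg.Agent.ClassBoundSq.Linear

/-!
Orders of solvable completely reducible groups in small dimensions over the fields of two and three elements.
-/

set_option autoImplicit false
set_option maxHeartbeats 1000000
set_option linter.style.haveILetI false
set_option linter.unusedSectionVars false
set_option linter.unusedTactic false
set_option linter.unreachableTactic false

namespace Cfsg.Agent.SolvLinQuot

open ClassBoundSq BaseTwo BaseTwo.Setting MulAction

universe u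

/-- A bound for automorphisms of the pairing in degree at most four. -/
def rb : ℕ → ℕ
  | 0 => 1
  | 1 => 1
  | 2 => 6
  | 3 => 24
  | _ => 72

theorem field_order {p : ℕ} [Fact p.Prime] {V H : Type u} [AddCommGroup V] [Finite V] [Group H] [Finite H]
    [Group.IsSolvable H] [DistribMulAction H V] [Nontrivial V] (K : Type u) [Field K] [Finite K] [Module K V]
    (T : Setting K V H) {a : ℕ} (hV : Nat.card V = p ^ a) :
    ∃ b e : ℕ, 0 < b ∧ 0 < e ∧ b ∣ a ∧ b * e ≤ a ∧ (Nat.Coprime (e ^ 2) (p ^ b - 1) → e = 1) ∧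
      (e ≤ 4 → Nat.card H ≤ b * ((p ^ b - 1) * (e ^ 2 * rb e))) := by
  have hp : p.Prime := Fact.out
  haveI : FiniteDimensional K V := Module.Finite.of_finite
  have hV' := Module.natCard_eq_pow_finrank (K := K) (V := V)
  have hd : 0 < Module.finrank K V := Module.finrank_pos
  obtain ⟨b, -, hb⟩ := (Nat.dvd_prime_pow hp).1
    (hV ▸ hV' ▸ dvd_pow_self (Nat.card K) hd.ne')
  rw [hV, hb, ← pow_mul] at hV'
  have hab : a = b * Module.finrank K V := Nat.pow_right_injective hp.two_le hV'
  have hb0 : 0 < b := Nat.pos_of_ne_zero fun e => by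
    have := Finite.one_lt_card (α := K)
    rw [hb, e, pow_zero] at this
    omega
  obtain ⟨e, he0, hw⟩ := (heis T).exists_sq
  have hed : e ≤ Module.finrank K V := (Nat.pow_le_pow_iff_left two_ne_zero).1 (hw ▸ card_W_le T)
  refine ⟨b, e, hb0, he0, hab ▸ dvd_mul_right _ _, hab ▸ Nat.mul_le_mul_left b hed, fun hco => ?_, fun he4 => ?_⟩
  · have h1 := w_one_of_coprime T (by rw [hw, hb]; exact hco)
    rw [hw] at h1
    exact ((Nat.pow_eq_one).1 h1).resolve_right (by norm_num)
  · let Φ : Form K (heis T).W := ⟨(heis T).pair, (heis T).pair_self, (heis T).pair_inj⟩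
    have hΦ : Φ.Pres (heis T).conj.range := fun φ hφ u v => (heis T).pair_fix hφ u v
    have hr : Nat.card (heis T).conj.range ≤ rb e := by
      rcases (show e = 1 ∨ e = 2 ∨ e = 3 ∨ e = 4 by omega) with rfl | rfl | rfl | rfl
      · haveI : Subsingleton (heis T).W := (Nat.card_eq_one_iff_unique.1 (by rw [hw]; norm_num)).1
        haveI : Subsingleton (heis T).conj.range :=
          ⟨fun x y => Subtype.ext (MulEquiv.ext fun u => Subsingleton.elim _ _)⟩
        exact (Nat.card_of_subsingleton (1 : (heis T).conj.range)).le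
      · exact (Φ.card_le_prime Nat.prime_two hw hΦ).trans (by norm_num [rb])
      · exact (Φ.card_le_prime Nat.prime_three hw hΦ).trans (by norm_num [rb])
      · exact field_h72 T hw
    rw [← T.C.index_mul_card, ← (heis T).B.card_mul_index, (heis T).index_eq, hw]
    refine Nat.mul_le_mul (index_le T hb) (Nat.mul_le_mul ?_ (Nat.mul_le_mul_left _ hr))
    refine Nat.le_of_dvd ?_ (hb ▸ card_B_dvd T)
    have := Nat.le_self_pow hb0.ne' p
    have := hp.two_le
    omega

/-- Orders over two elements. -/
def tabTwo : ℕ → ℕ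
  | 0 => 1
  | 1 => 1
  | 2 => 6
  | 3 => 21
  | 4 => 72
  | 5 => 155
  | _ => 1296

/-- Orders over three elements. -/
def tabThree : ℕ → ℕ
  | 0 => 1
  | 1 => 2
  | 2 => 48
  | 3 => 96
  | _ => 4608

theorem order_two_six (a : ℕ) (V : Type u) [AddCommGroup V] [Finite V] (H : Type u) [Group H] [Finite H]
    [Group.IsSolvable H] [DistribMulAction H V] (hf : ∀ h : H, (∀ v : V, h • v = v) → h = 1) (hcr : CR H V)
    (hV : Nat.card V = 2 ^ a) (ha : a ≤ 6) : Nat.card H ≤ tabTwo a := by
  refine cr_induction 2 (fun a n _ => a ≤ 6 → n ≤ tabTwo a) (fun _ => le_rfl) ?_ ?_ ?_ a V H hf hcr hV ha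
  · intro a b n₁ k₁ n₂ k₂ n k ha hb h1 h2 _ _ hn _ hab
    refine (hn.trans (Nat.mul_le_mul (h1 (by omega)) (h2 (by omega)))).trans ?_
    have : a ≤ 5 := by omega
    have : b ≤ 5 := by omega
    interval_cases a <;> interval_cases b <;> first | omega | norm_num [tabTwo]
  · intro a r m c s n k ha hr hm _ _ hs hn _ hra
    have h4 : r * 1 ≤ r * a := Nat.mul_le_mul_left r ha
    have h5 : 2 * a ≤ r * a := Nat.mul_le_mul_right a hr
    refine (hn.trans (Nat.mul_le_mul hs (Finset.prod_le_pow_card _ _ _ fun q _ => hm q (by omega)))).trans ?_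
    rw [Finset.card_univ, Fintype.card_fin]
    have : a ≤ 3 := by omega
    have : r ≤ 6 := by omega
    interval_cases a <;> interval_cases r <;> first | omega | norm_num [tabTwo, Nat.factorial]
  · intro V H _ _ _ _ _ _ _ K _ _ _ T a hV ha
    obtain ⟨b, e, hb, he, hba, hbe, hco, hH⟩ := field_order (p := 2) K T hV
    have h1 : b * 1 ≤ b * e := Nat.mul_le_mul_left b he
    have h2 : 1 * e ≤ b * e := Nat.mul_le_mul_right e hb
    have hb6 : b ≤ 6 := by omega
    have he6 : e ≤ 6 := by omega
    interval_cases b <;> interval_cases e <;> first | omega | (norm_num at hco; done) |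
      (refine (hH (by norm_num)).trans ?_
       interval_cases a <;> first | omega | norm_num [tabTwo, rb])

theorem order_three_four (a : ℕ) (V : Type u) [AddCommGroup V] [Finite V] (H : Type u) [Group H] [Finite H]
    [Group.IsSolvable H] [DistribMulAction H V] (hf : ∀ h : H, (∀ v : V, h • v = v) → h = 1) (hcr : CR H V)
    (hV : Nat.card V = 3 ^ a) (ha : a ≤ 4) : Nat.card H ≤ tabThree a := by
  haveI : Fact (Nat.Prime 3) := ⟨Nat.prime_three⟩
  refine cr_induction 3 (fun a n _ => a ≤ 4 → n ≤ tabThree a) (fun _ => le_rfl) ?_ ?_ ?_ a V H hf hcr hV ha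
  · intro a b n₁ k₁ n₂ k₂ n k ha hb h1 h2 _ _ hn _ hab
    refine (hn.trans (Nat.mul_le_mul (h1 (by omega)) (h2 (by omega)))).trans ?_
    have : a ≤ 3 := by omega
    have : b ≤ 3 := by omega
    interval_cases a <;> interval_cases b <;> first | omega | norm_num [tabThree]
  · intro a r m c s n k ha hr hm _ _ hs hn _ hra
    have h4 : r * 1 ≤ r * a := Nat.mul_le_mul_left r ha
    have h5 : 2 * a ≤ r * a := Nat.mul_le_mul_right a hr
    refine (hn.trans (Nat.mul_le_mul hs (Finset.prod_le_pow_card _ _ _ fun q _ => hm q (by omega)))).trans ?_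
    rw [Finset.card_univ, Fintype.card_fin]
    have : a ≤ 2 := by omega
    have : r ≤ 4 := by omega
    interval_cases a <;> interval_cases r <;> first | omega | norm_num [tabThree, Nat.factorial]
  · intro V H _ _ _ _ _ _ _ K _ _ _ T a hV ha
    obtain ⟨b, e, hb, he, hba, hbe, hco, hH⟩ := field_order (p := 3) K T hV
    have h1 : b * 1 ≤ b * e := Nat.mul_le_mul_left b he
    have h2 : 1 * e ≤ b * e := Nat.mul_le_mul_right e hb
    have hb4 : b ≤ 4 := by omega
    have he4 : e ≤ 4 := by omega
    interval_cases b <;> interval_cases e <;> first | omega | (norm_num at hco; done) |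
      (refine (hH (by norm_num)).trans ?_
       interval_cases a <;> first | omega | norm_num [tabThree, rb])

end Cfsg.Agent.SolvLinQuot
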